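import Cfsg.Agent.Lib.Factor.Basic
import Cfsg.Agent.Lib.MinimalNonNilpotent.Basic
import Cfsg.Agent.Lib.Solvable.Basic
import Mathlib.GroupTheory.SchurZassenhaus

/-!
Wielandt's theorem on nilpotent Hall subgroups, and splitting of nilpotent subgroups.
-/

set_option autoImplicit false

open Subgroup
open scoped Pointwise

namespace CfsgLib.Factor

variable {G : Type*} [Group G] [Finite G]

theorem nilpotent_mono {K N : Subgroup G} (hN : Group.IsNilpotent N) (h : K ≤ N) :
    Group.IsNilpotent K := by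
  have := hN
  exact Group.nilpotent_of_mulEquiv (Subgroup.subgroupOfEquivOfLe h)

theorem nilpotent_conj {N : Subgroup G} (hN : Group.IsNilpotent N) (x : G) :
    Group.IsNilpotent (MulAut.conj x • N : Subgroup G) := by
  have := hN
  exact Group.nilpotent_of_mulEquiv (Subgroup.equivSMul (MulAut.conj x) N)

/-- Subgroups of coprime order of a nilpotent subgroup centralise each other. -/
theorem le_centralizer_of_coprime {H A B : Subgroup G} (hH : Group.IsNilpotent H) {p : ℕ}
    [Fact p.Prime] (hA : IsPGroup p A) (hAH : A ≤ H) (hBH : B ≤ H)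
    (hB : ¬ p ∣ Nat.card B) : B ≤ centralizer (A : Set G) := by
  rw [← subgroupOf_eq_top]
  refine CfsgLib.MinNonNilp.eq_top_of_forall_sylow fun r hr hrd => ⟨default, fun x hx => ?_⟩
  rw [mem_subgroupOf]
  exact CfsgLib.MinNonNilp.commute_of_le_nilpotent hH (fun e => hB (by rwa [← e]))
    ((default : Sylow r B).2.map B.subtype) hA ((map_subtype_le _).trans hBH) hAH
    (mem_map_of_mem _ hx)

/-- A nilpotent subgroup is the product of its `p`-part and its `p'`-part. -/
theorem exists_split {H : Subgroup G} (hH : Group.IsNilpotent H) (p : ℕ) [Fact p.Prime] :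
    ∃ S T : Subgroup G, S ≤ H ∧ T ≤ H ∧ IsPGroup p S ∧ ¬ p ∣ Nat.card T ∧
      Nat.card S * Nat.card T = Nat.card H ∧ T ≤ centralizer (S : Set G) ∧ S ⊔ T = H := by
  have := hH
  let P : Sylow p H := default
  obtain ⟨T₀, hT⟩ := Subgroup.exists_right_complement'_of_coprime P.card_coprime_index
  have hTp : ¬ p ∣ Nat.card (T₀.map H.subtype) := by
    rw [card_map_of_injective H.subtype_injective]
    have := P.not_dvd_index
    rwa [hT.symm.index_eq_card] at this
  refine ⟨(P : Subgroup H).map H.subtype, T₀.map H.subtype, map_subtype_le _, map_subtype_le _,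
    P.2.map _, hTp, ?_, ?_, ?_⟩
  · rw [card_map_of_injective H.subtype_injective, card_map_of_injective H.subtype_injective]
    exact hT.card_mul
  · exact le_centralizer_of_coprime hH (P.2.map _) (map_subtype_le _) (map_subtype_le _) hTp
  · rw [← Subgroup.map_sup, hT.sup_eq_top, ← MonoidHom.range_eq_map, range_subtype]

/-- A `p`-subgroup of `L` lies in a conjugate of any `p`-subgroup of index prime to `p`. -/
theorem exists_conj_of_pgroup {L S P : Subgroup G} {p : ℕ} [Fact p.Prime] (hS : IsPGroup p S)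
    (hSL : S ≤ L) (hP : IsPGroup p P) (hPL : P ≤ L) (hidx : ¬ p ∣ S.relIndex L) :
    ∃ x ∈ L, P ≤ MulAut.conj x • S := by
  let S₁ := (hS.comap_of_injective L.subtype L.subtype_injective).toSylow hidx
  obtain ⟨P₁, hP₁⟩ := (hP.comap_of_injective L.subtype L.subtype_injective).exists_le_sylow
  obtain ⟨x, hx⟩ := MulAction.exists_smul_eq L S₁ P₁
  refine ⟨x, x.2, fun a ha => mem_conj.mpr ?_⟩
  have h := hP₁ (mem_comap.mpr ha : (⟨a, hPL ha⟩ : L) ∈ P.comap L.subtype)
  rw [← hx, Sylow.coe_subgroup_smul, mem_conj] at h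
  exact mem_comap.mp h

theorem nilpotent_hall_dominant_aux : ∀ (n : ℕ) (L H K : Subgroup G), H ≤ L → K ≤ L →
    Nat.card K = n → Group.IsNilpotent H → (Nat.card H).Coprime (H.relIndex L) →
    (∀ p : ℕ, p.Prime → p ∣ Nat.card K → p ∣ Nat.card H) →
    ∃ x ∈ L, K ≤ MulAut.conj x • H := by
  intro n
  induction n using Nat.strong_induction_on with
  | _ n ih =>
  intro L H K hHL hKL hn hH hHall hprimes
  subst hn
  -- proper subgroups of `K` lie in conjugates of `H`
  have hprop : ∀ K₀ : Subgroup G, K₀ ≤ K → K₀ ≠ K → ∃ x ∈ L, K₀ ≤ MulAut.conj x • H := by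
    intro K₀ hle hne
    refine ih (Nat.card K₀) ?_ L H K₀ hHL (hle.trans hKL) rfl hH hHall fun r hr hrd =>
      hprimes r hr (hrd.trans (card_dvd_of_le hle))
    by_contra hge
    exact hne (eq_of_le_of_card_ge hle (not_lt.mp hge))
  -- data for a conjugate of `H`
  have hconj : ∀ x ∈ L, MulAut.conj x • H ≤ L ∧ Group.IsNilpotent (MulAut.conj x • H : Subgroup G) ∧
      (Nat.card (MulAut.conj x • H : Subgroup G)).Coprime ((MulAut.conj x • H).relIndex L) ∧
      (∀ r : ℕ, r.Prime → r ∣ Nat.card K → r ∣ Nat.card (MulAut.conj x • H : Subgroup G)) := by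
    intro x hx
    have hc : Nat.card (MulAut.conj x • H : Subgroup G) = Nat.card H :=
      CfsgLib.Solvable.card_conj_smul x H
    refine ⟨?_, nilpotent_conj hH x, ?_, fun r hr hrd => hc.symm ▸ hprimes r hr hrd⟩
    · intro a ha
      rw [mem_conj] at ha
      have := L.mul_mem (L.mul_mem hx (hHL ha)) (L.inv_mem hx)
      simpa [mul_assoc] using this
    · rw [hc, show L = MulAut.conj x • L from (conj_smul_of_mem hx).symm,
        relIndex_pointwise_smul]
      exact hHall
  -- `p`-subgroups for the primes of `H`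
  have hsylow : ∀ (p : ℕ) [Fact p.Prime], p ∣ Nat.card H → ∀ H' : Subgroup G,
      (Nat.card H').Coprime (H'.relIndex L) → H' ≤ L → Nat.card H' = Nat.card H →
      ∀ S T : Subgroup G, S ≤ H' → Nat.card S * Nat.card T = Nat.card H' → ¬ p ∣ Nat.card T →
      ¬ p ∣ S.relIndex L := by
    intro p hp hpd H' hH' hH'L hc S T hS hST hT hdvd
    rw [← relIndex_mul_relIndex S H' L hS hH'L] at hdvd
    rcases hp.out.dvd_mul.mp hdvd with h | h
    · have h1 := (S.subgroupOf H').card_mul_index
      rw [Nat.card_congr (subgroupOfEquivOfLe hS).toEquiv, ← relIndex, ← hST] at h1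
      exact hT ((Nat.eq_of_mul_eq_mul_left Nat.card_pos h1) ▸ h)
    · exact hp.out.not_dvd_one (hH'.gcd_eq_one ▸ Nat.dvd_gcd (hc ▸ hpd) h)
  by_cases hKnil : Group.IsNilpotent K
  · by_cases hK1 : Nat.card K = 1
    · exact ⟨1, L.one_mem, fun a ha => by
        rw [eq_bot_of_card_eq K hK1, mem_bot] at ha
        subst ha; exact one_mem _⟩
    obtain ⟨p, hp, hpd⟩ := Nat.exists_prime_and_dvd hK1
    have := Fact.mk hp
    obtain ⟨Kp, Kt, hKp, hKt, hKpp, hKtp, hKc, -, hKsup⟩ := exists_split hKnil p
    by_cases hKt1 : Kt = ⊥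
    · have hKp' : Kp = K := by rw [← hKsup, hKt1, sup_bot_eq]
      subst hKp'
      obtain ⟨S, T, hS, -, hSp, hT, hST, -, -⟩ := exists_split hH p
      obtain ⟨x, hx, hxle⟩ := exists_conj_of_pgroup hSp (hS.trans hHL) hKpp hKL
        (hsylow p (hprimes p hp hpd) H hHall hHL rfl S T hS hST hT)
      exact ⟨x, hx, hxle.trans (pointwise_smul_le_pointwise_smul_iff.mpr hS)⟩
    · have hpKp : Kp ≠ ⊥ := fun e => hKtp (by
        rw [e, card_bot, one_mul] at hKc; rwa [hKc])
      have hKpne : Kp ≠ K := fun e => hKt1 (eq_bot_of_card_eq Kt (by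
        rw [e] at hKc; exact (Nat.mul_eq_left Nat.card_pos.ne').mp hKc))
      have hKtne : Kt ≠ K := fun e => hpKp (eq_bot_of_card_eq Kp (by
        rw [e] at hKc; exact (Nat.mul_eq_right Nat.card_pos.ne').mp hKc))
      obtain ⟨x, hx, hxle⟩ := hprop Kp hKp hKpne
      obtain ⟨hL', hH', hHall', hpr'⟩ := hconj x hx
      set H' := MulAut.conj x • H with hH'def
      obtain ⟨S, T, hS, hT, hSp, hTp, hST, -, -⟩ := exists_split hH' p
      have hTC : T ≤ L ⊓ centralizer (Kp : Set G) :=
        le_inf (hT.trans hL') (le_centralizer_of_coprime hH' hKpp hxle hT hTp)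
      have hKtC : Kt ≤ L ⊓ centralizer (Kp : Set G) :=
        le_inf (hKt.trans hKL) (le_centralizer_of_coprime hKnil hKpp hKp hKt hKtp)
      have hcopT : (Nat.card T).Coprime (T.relIndex (L ⊓ centralizer (Kp : Set G))) := by
        have h1 : T.relIndex (L ⊓ centralizer (Kp : Set G)) ∣ T.relIndex L := by
          rw [← relIndex_mul_relIndex T (L ⊓ centralizer (Kp : Set G)) L hTC inf_le_left]
          exact dvd_mul_right _ _
        refine Nat.Coprime.coprime_dvd_right h1 ?_
        rw [← relIndex_mul_relIndex T H' L hT hL']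
        refine Nat.Coprime.mul_right ?_ (hHall'.coprime_dvd_left (hST ▸ dvd_mul_left _ _))
        have h2 := (T.subgroupOf H').card_mul_index
        rw [Nat.card_congr (subgroupOfEquivOfLe hT).toEquiv, ← relIndex, ← hST,
          mul_comm (Nat.card S)] at h2
        rw [Nat.eq_of_mul_eq_mul_left Nat.card_pos h2]
        obtain ⟨k, hk⟩ := IsPGroup.iff_card.mp hSp
        rw [hk]
        exact Nat.Coprime.pow_right k (hp.coprime_iff_not_dvd.mpr hTp).symm
      have hlt : Nat.card Kt < Nat.card K := by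
        by_contra hge
        exact hKtne (eq_of_le_of_card_ge hKt (not_lt.mp hge))
      obtain ⟨c, hc, hcle⟩ := ih _ hlt (L ⊓ centralizer (Kp : Set G)) T Kt hTC hKtC rfl
        (nilpotent_mono hH' hT) hcopT fun r hr hrd => by
          have h1 := hpr' r hr (hrd.trans (card_dvd_of_le hKt))
          rw [← hST] at h1
          refine (hr.dvd_mul.mp h1).resolve_left fun h2 => hKtp ?_
          obtain ⟨k, hk⟩ := IsPGroup.iff_card.mp hSp
          rw [hk] at h2
          rwa [← (Nat.prime_dvd_prime_iff_eq hr hp).mp (hr.dvd_of_dvd_pow h2)]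
      refine ⟨c * x, L.mul_mem hc.1 hx, ?_⟩
      rw [map_mul, mul_smul, ← hH'def, ← hKsup]
      refine sup_le (fun a ha => ?_) (hcle.trans (pointwise_smul_le_pointwise_smul_iff.mpr hT))
      rw [mem_conj]
      have h1 : a * c = c * a := mem_centralizer_iff.mp hc.2 a ha
      rw [mul_assoc, h1, inv_mul_cancel_left]
      exact hxle ha
  · exfalso
    have hmin : Cfsg.IsMinimalNonNilpotent K := by
      refine ⟨hKnil, fun X hX => ?_⟩
      obtain ⟨x, -, hx⟩ := hprop (X.map K.subtype) (map_subtype_le _) fun e => hX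
        (map_injective K.subtype_injective (by
          rw [e, ← MonoidHom.range_eq_map, range_subtype]))
      have := nilpotent_mono (nilpotent_conj hH x) hx
      exact Group.nilpotent_of_mulEquiv
        (X.equivMapOfInjective K.subtype K.subtype_injective).symm
    obtain ⟨p, q, hp, hq, hpq, P, Q, -, hQn, hPQ⟩ :=
      CfsgLib.MinNonNilp.structure_theorem hmin
    have := Fact.mk hp
    have := Fact.mk hq
    have hQtop : (Q : Subgroup K) ≠ ⊤ := fun e => hKnil
      (((e ▸ Q.2 : IsPGroup q (⊤ : Subgroup K)).of_equiv Subgroup.topEquiv).isNilpotent)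
    have hP1 : (P : Subgroup K) ≠ ⊥ := fun e => hQtop (by rw [← hPQ, e, bot_sup_eq])
    set Q₀ := (Q : Subgroup K).map K.subtype with hQ₀
    set P₀ := (P : Subgroup K).map K.subtype with hP₀
    obtain ⟨x, hx, hxle⟩ := hprop Q₀ (map_subtype_le _) fun e => hQtop
      (map_injective K.subtype_injective (by
        rw [← hQ₀, e, ← MonoidHom.range_eq_map, range_subtype]))
    obtain ⟨hL', hH', hHall', hpr'⟩ := hconj x hx
    have hpd : p ∣ Nat.card H := by
      refine hprimes p hp ?_
      have := Fact.mk hp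
      obtain ⟨k, hk⟩ := IsPGroup.iff_card.mp P.2
      have hk0 : k ≠ 0 := fun e => hP1 (eq_bot_of_card_eq _ (by rw [hk, e, pow_zero]))
      exact (Eq.subst (motive := fun m => p ∣ m) hk.symm (dvd_pow_self p hk0)).trans
        (card_subgroup_dvd_card _)
    obtain ⟨S, T, hS, -, hSp, hTp, hST, -, -⟩ := exists_split hH' p
    have hQp : ¬ p ∣ Nat.card Q₀ := fun h => by
      obtain ⟨k, hk⟩ := IsPGroup.iff_card.mp (Q.2.map K.subtype)
      rw [hk] at h
      exact hpq ((Nat.prime_dvd_prime_iff_eq hp hq).mp (hp.dvd_of_dvd_pow h))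
    have hSQ : S ≤ centralizer (Q₀ : Set G) :=
      le_centralizer_iff.mp (le_centralizer_of_coprime hH' hSp hS hxle hQp)
    have hSM : S ≤ L ⊓ normalizer (Q₀ : Set G) :=
      le_inf (hS.trans hL') (hSQ.trans (centralizer_le_normalizer _))
    have hPM : P₀ ≤ L ⊓ normalizer (Q₀ : Set G) := by
      refine le_inf ((map_subtype_le _).trans hKL) ?_
      refine le_trans (Subgroup.map_mono le_top) ?_
      have := le_normalizer_map K.subtype (H := (Q : Subgroup K))
      rwa [normalizer_eq_top] at this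
    have hidx : ¬ p ∣ S.relIndex (L ⊓ normalizer (Q₀ : Set G)) := fun h =>
      hsylow p hpd _ hHall' hL' (CfsgLib.Solvable.card_conj_smul x H) S T hS hST hTp
        (h.trans (by
          rw [← relIndex_mul_relIndex S _ L hSM inf_le_left]
          exact dvd_mul_right _ _))
    obtain ⟨y, hy, hyle⟩ := exists_conj_of_pgroup hSp hSM (P.2.map _) hPM hidx
    refine hKnil ?_
    have hcomm : ∀ a ∈ (P : Subgroup K), ∀ b ∈ (Q : Subgroup K), b * a = a * b := by
      intro a ha b hb
      apply K.subtype_injective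
      have h1 := hSQ (mem_conj.mp (hyle (mem_map_of_mem K.subtype ha)))
      have h2 : y⁻¹ * (b : G) * y ∈ Q₀ := by
        have := (mem_normalizer_iff.mp ((normalizer (Q₀ : Set G)).inv_mem hy.2) (b : G)).mp
          (mem_map_of_mem K.subtype hb)
        simpa [mul_assoc] using this
      have h3 := mem_centralizer_iff.mp h1 _ h2
      calc (b : G) * a = y * ((y⁻¹ * b * y) * (y⁻¹ * a * y)) * y⁻¹ := by group
        _ = y * ((y⁻¹ * a * y) * (y⁻¹ * b * y)) * y⁻¹ := congrArg (fun t => y * t * y⁻¹) h3
        _ = (a : G) * b := by group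
    have hPn : (P : Subgroup K).Normal := by
      rw [← normalizer_eq_top_iff, eq_top_iff, ← hPQ]
      refine sup_le le_normalizer fun b hb => ?_
      refine centralizer_le_normalizer _ (mem_centralizer_iff.mpr fun a ha => ?_)
      exact (hcomm a ha b hb).symm
    have := CfsgLib.Solvable.isNilpotent_sup_of_normal (P : Subgroup K) Q hPn hQn
      P.2.isNilpotent Q.2.isNilpotent
    rw [hPQ] at this
    exact Group.isNilpotent_top.mp this

/-- Wielandt: every subgroup whose primes divide the order of a nilpotent Hall subgroup `H` lies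
in a conjugate of `H`. -/
theorem exists_conj_le_of_nilpotent_hall {H K : Subgroup G} (hH : Group.IsNilpotent H)
    (hHall : (Nat.card H).Coprime H.index)
    (hK : ∀ p : ℕ, p.Prime → p ∣ Nat.card K → p ∣ Nat.card H) :
    ∃ x : G, K ≤ MulAut.conj x • H := by
  obtain ⟨x, -, hx⟩ := nilpotent_hall_dominant_aux _ ⊤ H K le_top le_top rfl hH
    (by rwa [relIndex_top_right]) hK
  exact ⟨x, hx⟩

end CfsgLib.Factor
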