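import Cfsg.Agent.Lib.Factor.Wielandt

/-!
The theorem of Kegel and Wielandt.
-/

set_option autoImplicit false

open Subgroup
open scoped Pointwise

namespace CfsgLib.Factor

open Wielandt (part part_le part_pgroup part_card part_normal le_part part_ne_bot)

universe u

variable {G : Type u} [Group G] [Finite G]

/-- If `G = N A`, `U ⊇ Aq` is normalised by `N`, `A` normalises `Aq` and the minimal normal
subgroup `N` is not inside `U`, then `Aq` centralises `N`. -/
theorem le_centralizer_of_minimal {N A Aq U : Subgroup G} [N.Normal] (hNA : N ⊔ A = ⊤)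
    (hAq : A ≤ normalizer (Aq : Set G)) (hAqU : Aq ≤ U) (hNU : N ≤ normalizer (U : Set G))
    (hnle : ¬ N ≤ U) (hmin : ∀ K : Subgroup G, K.Normal → K ≤ N → K = ⊥ ∨ K = N) :
    Aq ≤ centralizer (N : Set G) := by
  set W := U ⊓ N with hW
  have hcore : W.normalCore = ⊥ :=
    (hmin _ (normalCore_normal W) ((normalCore_le W).trans inf_le_right)).resolve_right fun e =>
      hnle ((e.symm.le.trans (normalCore_le W)).trans inf_le_left)
  intro x hx
  rw [mem_centralizer_iff]
  intro n hn
  have hmem : x * n * x⁻¹ * n⁻¹ ∈ W.normalCore := by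
    intro g
    obtain ⟨m, hm, a, ha, rfl⟩ := (CfsgLib.Solvable.mem_sup_of_le_normalizer
      ((normalizer_eq_top N).ge.trans' le_top : A ≤ normalizer (N : Set G))).mp
      (hNA ▸ mem_top g)
    set u := a * x * a⁻¹ with hu
    set k := a * n * a⁻¹ with hk
    have huU : u ∈ U := hAqU ((mem_normalizer_iff.mp (hAq ha) x).mp hx)
    have hkN : k ∈ N := Normal.conj_mem inferInstance n hn a
    have h1 : u * k * u⁻¹ * k⁻¹ ∈ W := by
      refine ⟨?_, N.mul_mem (Normal.conj_mem inferInstance k hkN u) (N.inv_mem hkN)⟩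
      have : k * u⁻¹ * k⁻¹ ∈ U := (mem_normalizer_iff.mp (hNU hkN) _).mp (U.inv_mem huU)
      simpa [mul_assoc] using U.mul_mem huU this
    have h2 : m * (u * k * u⁻¹ * k⁻¹) * m⁻¹ ∈ W :=
      ⟨(mem_normalizer_iff.mp (hNU hm) _).mp h1.1, Normal.conj_mem inferInstance _ h1.2 m⟩
    have h3 : m * a * (x * n * x⁻¹ * n⁻¹) * (m * a)⁻¹ = m * (u * k * u⁻¹ * k⁻¹) * m⁻¹ := by
      rw [hu, hk]; group
    rw [h3]
    exact h2
  rw [hcore, mem_bot] at hmem
  exact (mul_inv_eq_iff_eq_mul.mp (mul_inv_eq_one.mp hmem)).symm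

/-- Kegel–Wielandt. -/
theorem isSolvable_of_nilpotent_factor {A B : Subgroup G} (hA : Group.IsNilpotent A)
    (hB : Group.IsNilpotent B) (hAB : ∀ g : G, ∃ a ∈ A, ∃ b ∈ B, g = a * b) :
    Group.IsSolvable G := by
  revert hA hB hAB A B
  refine CfsgLib.Supersolvable.groupInduction (P := fun G [Group G] [Finite G] =>
    ∀ {A B : Subgroup G}, Group.IsNilpotent A → Group.IsNilpotent B →
      (∀ g : G, ∃ a ∈ A, ∃ b ∈ B, g = a * b) → Group.IsSolvable G) ?_ G
  intro G _ _ ih A B hA hB hAB
  by_cases hcop : (Nat.card A).Coprime (Nat.card B)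
  · exact Wielandt.isSolvable_of_coprime hA hB hcop hAB
  obtain ⟨q₀, hq₀, hqA, hqB⟩ := Nat.Prime.not_coprime_iff_dvd.mp hcop
  have := Fact.mk hq₀
  by_contra hns
  -- products of the parts
  have hprod : ∀ (q : ℕ) [Fact q.Prime], ∃ R : Sylow q G, ((R : Subgroup G) : Set G) =
      (part A q : Set G) * (part B q : Set G) := by
    intro q _
    obtain ⟨P, Q, R, hR⟩ := exists_sylow_product hAB q
    refine ⟨R, ?_⟩
    have := hA
    have := hB
    rw [part, part, CfsgLib.MinNonNilp.sylow_eq_of_normal default P inferInstance,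
      CfsgLib.MinNonNilp.sylow_eq_of_normal default Q inferInstance]
    exact hR
  have hprodx : ∀ (q : ℕ) [Fact q.Prime] (x : G), ∃ a ∈ A, ∃ R : Sylow q G,
      ((MulAut.conj a • (R : Subgroup G) : Subgroup G) : Set G) =
        (part A q : Set G) * ((MulAut.conj x • part B q : Subgroup G) : Set G) := by
    intro q _ x
    obtain ⟨R, hR⟩ := hprod q
    obtain ⟨a, ha, b, hb, rfl⟩ := hAB x
    refine ⟨a, ha, R, ?_⟩
    rw [coe_pointwise_smul, hR, smul_mul', ← coe_pointwise_smul, ← coe_pointwise_smul,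
      CfsgLib.Solvable.conj_smul_eq_self_iff.mpr (part_normal hA ha), map_mul, mul_smul,
      CfsgLib.Solvable.conj_smul_eq_self_iff.mpr (part_normal hB hb)]
  have hnotp : ∀ (q : ℕ) [Fact q.Prime] (L : Subgroup G), IsPGroup q L → Group.IsSolvable L :=
    fun q _ L hL => CfsgLib.Solvable.isSolvable_of_isPGroup hL
  have hsolv_top : ∀ L : Subgroup G, Group.IsSolvable L → L = ⊤ → False := fun L hL e => hns <| by
    exact Group.isSolvable_of_surjective (f := L.subtype)
      (MonoidHom.range_eq_top.mp (by rw [range_subtype, e]))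
  -- a minimal normal subgroup
  obtain ⟨N₁, hN₁, hN₁t, hle⟩ := Cfsg.Agent.S0566.result (part A q₀) (part B q₀)
    (part_ne_bot hqA) (part_ne_bot hqB) fun x => by
      obtain ⟨a, -, R, hR⟩ := hprodx q₀ x
      exact ⟨_, fun e => hsolv_top _ (hnotp q₀ _ (R.2.map _)) e, hR⟩
  have hN₁b : N₁ ≠ ⊥ := fun e => hle.elim (fun hle => part_ne_bot hqA (le_bot_iff.mp (e ▸ hle)))
    fun hle => part_ne_bot hqB (le_bot_iff.mp (e ▸ hle))
  obtain ⟨N, hN, hN1, hNle, hmin⟩ := CfsgLib.Solvable.exists_minimal_normal_le N₁ hN₁b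
  have hNt : N ≠ ⊤ := fun e => hN₁t (top_le_iff.mp (e ▸ hNle))
  have hquo : ∀ M : Subgroup G, M.Normal → M ≠ ⊥ → ∀ [M.Normal], Group.IsSolvable (G ⧸ M) := by
    intro M _ hM _
    refine ih (G ⧸ M) (CfsgLib.Supersolvable.card_quotient_lt hM)
      (A := A.map (QuotientGroup.mk' M)) (B := B.map (QuotientGroup.mk' M)) ?_ ?_ ?_
    · have := hA
      exact Group.nilpotent_of_surjective _ ((QuotientGroup.mk' M).subgroupMap_surjective A)
    · have := hB
      exact Group.nilpotent_of_surjective _ ((QuotientGroup.mk' M).subgroupMap_surjective B)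
    · intro g
      obtain ⟨g, rfl⟩ := QuotientGroup.mk'_surjective M g
      obtain ⟨a, ha, b, hb, rfl⟩ := hAB g
      exact ⟨_, mem_map_of_mem _ ha, _, mem_map_of_mem _ hb, map_mul _ _ _⟩
  have hNns : ¬ Group.IsSolvable N := fun hs => by
    have := hs
    have := hquo N hN hN1
    exact hns (Group.isSolvable_of_ker_le_range N.subtype (QuotientGroup.mk' N) (by simp))
  -- both factors supplement `N`
  have hnorm : ∀ K : Subgroup G, K ≤ normalizer (N : Set G) := fun K => by
    rw [normalizer_eq_top]; exact le_top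
  have hXtop : (N ⊔ A) ⊓ (N ⊔ B) = ⊤ := by
    by_contra hX
    set X := (N ⊔ A) ⊓ (N ⊔ B)
    have hXs : Group.IsSolvable X := by
      refine ih X ?_ (A := (A ⊓ (N ⊔ B)).subgroupOf X) (B := (B ⊓ (N ⊔ A)).subgroupOf X) ?_ ?_ ?_
      · exact lt_of_le_of_ne (card_le_card_group X) fun he => hX (eq_top_of_card_eq X he)
      · have := nilpotent_mono hA (inf_le_left : A ⊓ (N ⊔ B) ≤ A)
        exact Group.nilpotent_of_mulEquiv (subgroupOfEquivOfLe
          (le_inf (inf_le_left.trans le_sup_right) inf_le_right)).symm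
      · have := nilpotent_mono hB (inf_le_left : B ⊓ (N ⊔ A) ≤ B)
        exact Group.nilpotent_of_mulEquiv (subgroupOfEquivOfLe
          (le_inf inf_le_right (inf_le_left.trans le_sup_right))).symm
      · rintro ⟨g, hg1, hg2⟩
        obtain ⟨a, ha, b, hb, rfl⟩ := hAB g
        have h1 : a ∈ N ⊔ B := by simpa using (N ⊔ B).mul_mem hg2 ((N ⊔ B).inv_mem (mem_sup_right hb))
        have h2 : b ∈ N ⊔ A := by simpa using (N ⊔ A).mul_mem ((N ⊔ A).inv_mem (mem_sup_right ha)) hg1
        exact ⟨⟨a, mem_sup_right ha, h1⟩, mem_subgroupOf.mpr ⟨ha, h1⟩,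
          ⟨b, h2, mem_sup_right hb⟩, mem_subgroupOf.mpr ⟨hb, h2⟩, rfl⟩
    have hNX : N ≤ X := le_inf le_sup_left le_sup_left
    have := hXs
    exact hNns (Group.isSolvable_of_isSolvable_injective (f := inclusion hNX)
      (inclusion_injective hNX))
  have hNA : N ⊔ A = ⊤ := top_le_iff.mp (hXtop ▸ inf_le_left)
  have hNB : N ⊔ B = ⊤ := top_le_iff.mp (hXtop ▸ inf_le_right)
  -- a prime dividing the index of `N`
  obtain ⟨q, hq, hqd⟩ := Nat.exists_prime_and_dvd (fun h => hNt (index_eq_one.mp h))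
  have := Fact.mk hq
  have hindex : ∀ C : Subgroup G, N ⊔ C = ⊤ → N.index = N.relIndex C := fun C hC => by
    rw [← CfsgLib.Solvable.relIndex_sup_of_le_normalizer (hnorm C), hC, relIndex_top_right]
  have hqdA : q ∣ Nat.card A := (hindex A hNA ▸ hqd).trans (relIndex_dvd_card _ _)
  have hqdB : q ∣ Nat.card B := (hindex B hNB ▸ hqd).trans (relIndex_dvd_card _ _)
  -- `N ⊔ part` is normal and contains all `q`-subgroups
  have hL : ∀ C : Subgroup G, Group.IsNilpotent C → N ⊔ C = ⊤ → q ∣ Nat.card C →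
      (N ⊔ part C q).Normal ∧ ∀ P : Subgroup G, IsPGroup q P → P ≤ N ⊔ part C q := by
    intro C hC hNC hqC
    have hn : (N ⊔ part C q).Normal := by
      rw [← normalizer_eq_top_iff, eq_top_iff, ← hNC]
      refine sup_le (le_sup_left.trans le_normalizer) fun c hc => ?_
      rw [← CfsgLib.Solvable.conj_smul_eq_self_iff, smul_sup,
        CfsgLib.Solvable.conj_smul_eq_self_iff.mpr (part_normal hC hc),
        CfsgLib.Solvable.conj_smul_eq_self_iff.mpr (hnorm C hc)]
    refine ⟨hn, fun P hP => CfsgLib.HallComplement.le_of_normal_hall ?_⟩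
    have hidx : ¬ q ∣ (N ⊔ part C q).index := by
      intro hd
      have h1 : (N ⊔ part C q).index ∣ (part C q).relIndex C := by
        have e : (N ⊔ part C q) ⊔ C = ⊤ := by
          rw [eq_top_iff, ← hNC]
          exact sup_le_sup_right le_sup_left C
        have h2 := CfsgLib.Solvable.relIndex_sup_of_le_normalizer
          (N := N ⊔ part C q) (H := C) (by rw [normalizer_eq_top]; exact le_top)
        rw [e, relIndex_top_right] at h2
        rw [h2]
        exact relIndex_dvd_of_le_left C le_sup_right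
      have h3 : ¬ q ∣ (part C q).relIndex C := by
        rw [relIndex]
        have he : (part C q).subgroupOf C = ((default : Sylow q C) : Subgroup C) :=
          comap_map_eq_self_of_injective C.subtype_injective _
        rw [he]
        exact (default : Sylow q C).not_dvd_index
      exact h3 (hd.trans h1)
    exact Wielandt.coprime_of_pgroup hq hP hidx
  obtain ⟨hLn, hLA⟩ := hL A hA hNA hqdA
  obtain ⟨hLn', hLB⟩ := hL B hB hNB hqdB
  set L := N ⊔ part A q with hLdef
  have hBL : part B q ≤ L := hLA _ part_pgroup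
  have hLeq : L = N ⊔ part B q :=
    le_antisymm (sup_le le_sup_left (hLB _ part_pgroup)) (sup_le le_sup_left hBL)
  obtain ⟨U, hU, hUt, hUle⟩ := Cfsg.Agent.S0566.result ((part A q).subgroupOf L)
    ((part B q).subgroupOf L)
    (fun e => part_ne_bot hqdA (by
      rw [← map_subgroupOf_eq_of_le (le_sup_right : part A q ≤ L), e, Subgroup.map_bot]))
    (fun e => part_ne_bot hqdB (by
      rw [← map_subgroupOf_eq_of_le hBL, e, Subgroup.map_bot]))
    fun x => by
      obtain ⟨a, -, R, hR⟩ := hprodx q (x : G)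
      have hRp : IsPGroup q (MulAut.conj a • (R : Subgroup G) : Subgroup G) := R.2.map _
      have hRL : MulAut.conj a • (R : Subgroup G) ≤ L := hLA _ hRp
      refine ⟨(MulAut.conj a • (R : Subgroup G)).subgroupOf L, fun e => hNns ?_, ?_⟩
      · have := hnotp q N (hRp.to_le (le_sup_left.trans (subgroupOf_eq_top.mp e)))
        exact this
      · apply Set.image_injective.mpr L.subtype_injective
        rw [Set.image_mul, ← coe_map, ← coe_map, ← coe_map, map_subgroupOf_eq_of_le hRL,
          map_subgroupOf_eq_of_le (le_sup_right : part A q ≤ L), CfsgLib.Solvable.map_conj_smul,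
          map_subgroupOf_eq_of_le hBL]
        exact hR
  have hNU : N ≤ normalizer ((U.map L.subtype : Subgroup G) : Set G) :=
    le_sup_left.trans (Wielandt.le_normalizer_map_subtype U)
  have hcen : ∀ C Cq : Subgroup G, N ⊔ C = ⊤ → C ≤ normalizer (Cq : Set G) → Cq ≠ ⊥ →
      Cq ≤ L → L = N ⊔ Cq → Cq.subgroupOf L ≤ U → False := by
    intro C Cq hNC hCq hne hCqL hLe hle
    have hcU : Cq ≤ U.map L.subtype := fun x hx => ⟨⟨x, hCqL hx⟩, hle (mem_subgroupOf.mpr hx), rfl⟩
    have hc := le_centralizer_of_minimal hNC hCq hcU hNU (fun hle' => hUt (top_le_iff.mp ?_)) hmin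
    · have hZn : (centralizer (N : Set G) ⊓ N).Normal := inferInstance
      rcases hmin _ hZn inf_le_right with h0 | h0
      · have := hquo (centralizer (N : Set G)) inferInstance
          fun e => hne (le_bot_iff.mp (e ▸ hc))
        refine hNns (Group.isSolvable_of_isSolvable_injective
          (f := (QuotientGroup.mk' (centralizer (N : Set G))).comp N.subtype) ?_)
        rw [injective_iff_map_eq_one]
        intro n hn
        have : (n : G) ∈ centralizer (N : Set G) ⊓ N :=
          ⟨(QuotientGroup.eq_one_iff (n : G)).mp hn, n.2⟩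
        rw [h0, mem_bot] at this
        exact Subtype.ext this
      · exact hNns (Group.isSolvable_of_comm fun a b => Subtype.ext
          (mem_centralizer_iff.mp ((h0.ge a.2).1) (b : G) b.2).symm)
    · rintro ⟨x, hx⟩ -
      have : x ∈ U.map L.subtype := (hLe.le.trans (sup_le hle' hcU)) hx
      obtain ⟨y, hy, rfl⟩ := this
      exact hy
  rcases hUle with hle | hle
  · exact hcen A (part A q) hNA (part_normal hA) (part_ne_bot hqdA) le_sup_right rfl hle
  · exact hcen B (part B q) hNB (part_normal hB) (part_ne_bot hqdB) hBL hLeq hle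

end CfsgLib.Factor
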