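import Mathlib.GroupTheory.Sylow
import Mathlib.GroupTheory.Coset.Basic
import Mathlib.GroupTheory.Index
import Mathlib.Algebra.Group.Subgroup.Pointwise
import Mathlib.Tactic.Group

/-!
Elementary lemmas about factorisations `G = H K` of a finite group.
-/

set_option autoImplicit false

open Subgroup
open scoped Pointwise

namespace CfsgLib.Factor

variable {G : Type*} [Group G]

theorem mem_conj {g x : G} {H : Subgroup G} :
    x ∈ MulAut.conj g • H ↔ g⁻¹ * x * g ∈ H := by
  rw [mem_pointwise_smul_iff_inv_smul_mem, ← map_inv, MulAut.smul_def, MulAut.conj_apply, inv_inv]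

theorem conj_smul_of_mem {g : G} {H : Subgroup G} (h : g ∈ H) : MulAut.conj g • H = H := by
  ext x
  rw [mem_conj]
  constructor
  · intro hx
    have := H.mul_mem (H.mul_mem h hx) (H.inv_mem h)
    simpa [mul_assoc] using this
  · intro hx
    exact H.mul_mem (H.mul_mem (H.inv_mem h) hx) h

/-- Conjugates of the two factors are simultaneous conjugates. -/
theorem exists_conj_pair {H K : Subgroup G} (hHK : ∀ g : G, ∃ h ∈ H, ∃ k ∈ K, g = h * k)
    (x y : G) : ∃ g : G, MulAut.conj x • H = MulAut.conj g • H ∧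
      MulAut.conj y • K = MulAut.conj g • K := by
  obtain ⟨h, hh, k, hk, he⟩ := hHK (x⁻¹ * y)
  refine ⟨x * h, ?_, ?_⟩
  · rw [map_mul, mul_smul, conj_smul_of_mem hh]
  · have h2 : x * h = y * k⁻¹ := by
      rw [eq_mul_inv_iff_mul_eq, mul_assoc, ← he, mul_inv_cancel_left]
    rw [h2, map_mul, mul_smul, conj_smul_of_mem (K.inv_mem hk)]

theorem factor_conj {H K : Subgroup G} (hHK : ∀ g : G, ∃ h ∈ H, ∃ k ∈ K, g = h * k)
    (x y g : G) : ∃ a ∈ MulAut.conj x • H, ∃ b ∈ MulAut.conj y • K, g = a * b := by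
  obtain ⟨u, hu, hv⟩ := exists_conj_pair hHK x y
  obtain ⟨h, hh, k, hk, he⟩ := hHK (u⁻¹ * g * u)
  refine ⟨u * h * u⁻¹, ?_, u * k * u⁻¹, ?_, ?_⟩
  · rw [hu, mem_conj]
    simpa [mul_assoc] using hh
  · rw [hv, mem_conj]
    simpa [mul_assoc] using hk
  · calc g = u * (u⁻¹ * g * u) * u⁻¹ := by group
      _ = _ := by rw [he]; group

theorem factor_symm {H K : Subgroup G} (hHK : ∀ g : G, ∃ h ∈ H, ∃ k ∈ K, g = h * k) (g : G) :
    ∃ k ∈ K, ∃ h ∈ H, g = k * h := by
  obtain ⟨h, hh, k, hk, he⟩ := hHK g⁻¹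
  exact ⟨k⁻¹, K.inv_mem hk, h⁻¹, H.inv_mem hh, by rw [← mul_inv_rev, ← he, inv_inv]⟩

theorem factor_index [Finite G] {H K : Subgroup G}
    (hHK : ∀ g : G, ∃ h ∈ H, ∃ k ∈ K, g = h * k) : K.relIndex H = K.index := by
  refine le_antisymm (relIndex_top_right K ▸ relIndex_le_of_le_right le_top
    (by rw [relIndex_top_right]; exact index_ne_zero_of_finite)) ?_
  have hs : Function.Surjective
      (fun q : H ⧸ K.subgroupOf H => Quotient.map' (fun a : H => (a : G))
        (fun a b hab => by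
          rw [QuotientGroup.leftRel_apply] at hab ⊢
          exact hab) q : H ⧸ K.subgroupOf H → G ⧸ K) := by
    intro q
    induction q using QuotientGroup.induction_on with
    | H g =>
      obtain ⟨h, hh, k, hk, rfl⟩ := hHK g
      refine ⟨QuotientGroup.mk ⟨h, hh⟩, ?_⟩
      show (QuotientGroup.mk h : G ⧸ K) = QuotientGroup.mk (h * k)
      rw [QuotientGroup.eq]
      simpa using hk
  exact Nat.card_le_card_of_surjective _ hs

/-- `|H| |K| = |G| |H ⊓ K|` for `G = H K`. -/
theorem factor_card [Finite G] {H K : Subgroup G}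
    (hHK : ∀ g : G, ∃ h ∈ H, ∃ k ∈ K, g = h * k) :
    Nat.card H * Nat.card K = Nat.card G * Nat.card (H ⊓ K : Subgroup G) := by
  have h1 := (K.subgroupOf H).card_mul_index
  have h2 : Nat.card (K.subgroupOf H) = Nat.card (H ⊓ K : Subgroup G) := by
    rw [← card_map_of_injective H.subtype_injective, subgroupOf_map_subtype, inf_comm]
  rw [← relIndex, factor_index hHK, h2] at h1
  rw [← h1, ← K.card_mul_index]
  ring

/-- If the index of `Q` in `P` is as large as in `R`, then `R = P Q`. -/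
theorem exists_mul_of_relIndex_le [Finite G] {P Q R : Subgroup G} (hP : P ≤ R) (hQ : Q ≤ R)
    (h : Q.relIndex R ≤ Q.relIndex P) : ∀ r ∈ R, ∃ a ∈ P, ∃ b ∈ Q, r = a * b := by
  intro r hr
  let f := quotientSubgroupOfEmbeddingOfLE Q hP
  have hf : Function.Surjective f :=
    (f.injective.bijective_of_nat_card_le h).2
  obtain ⟨q, hq⟩ := hf (QuotientGroup.mk ⟨r, hr⟩)
  induction q using QuotientGroup.induction_on with
  | H a =>
    rw [quotientSubgroupOfEmbeddingOfLE_apply_mk, QuotientGroup.eq, mem_subgroupOf] at hq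
    exact ⟨a, a.2, (a : G)⁻¹ * r, by simpa using hq, by group⟩

/-- The set product of two subgroups inside `R` of sufficient size is `R`. -/
theorem coe_eq_mul_of_relIndex_le [Finite G] {P Q R : Subgroup G} (hP : P ≤ R) (hQ : Q ≤ R)
    (h : Q.relIndex R ≤ Q.relIndex P) : (R : Set G) = (P : Set G) * (Q : Set G) := by
  refine subset_antisymm (fun r hr => ?_) ?_
  · obtain ⟨a, ha, b, hb, rfl⟩ := exists_mul_of_relIndex_le hP hQ h r hr
    exact Set.mul_mem_mul ha hb
  · rintro x ⟨a, ha, b, hb, rfl⟩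
    exact R.mul_mem (hP ha) (hQ hb)

/-- Sylow subgroups of the factors multiply to a Sylow subgroup of the product. -/
theorem exists_sylow_product [Finite G] {H K : Subgroup G}
    (hHK : ∀ g : G, ∃ h ∈ H, ∃ k ∈ K, g = h * k) (p : ℕ) [hp : Fact p.Prime] :
    ∃ (P : Sylow p H) (Q : Sylow p K) (R : Sylow p G), ((R : Subgroup G) : Set G) =
      (((P : Subgroup H).map H.subtype : Subgroup G) : Set G) *
      (((Q : Subgroup K).map K.subtype : Subgroup G) : Set G) := by
  have P₀ : Sylow p H := default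
  have Q₀ : Sylow p K := default
  obtain ⟨R₁, hR₁⟩ := (P₀.2.map H.subtype).exists_le_sylow
  obtain ⟨R₂, hR₂⟩ := (Q₀.2.map K.subtype).exists_le_sylow
  obtain ⟨g, hg⟩ := MulAction.exists_smul_eq G R₁ R₂
  obtain ⟨k, hk, h, hh, rfl⟩ := factor_symm hHK g
  set R : Sylow p G := h • R₁ with hR
  have hR' : R = k⁻¹ • R₂ := by rw [hR, ← hg, mul_smul, inv_smul_smul]
  set P : Sylow p H := (⟨h, hh⟩ : H) • P₀ with hP
  set Q : Sylow p K := (⟨k⁻¹, K.inv_mem hk⟩ : K) • Q₀ with hQ
  have hPR : (P : Subgroup H).map H.subtype ≤ (R : Subgroup G) := by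
    rintro x ⟨a, ha, rfl⟩
    rw [hR, Sylow.coe_subgroup_smul, mem_conj]
    rw [hP, Sylow.coe_subgroup_smul, SetLike.mem_coe, mem_conj] at ha
    exact hR₁ (mem_map_of_mem H.subtype ha)
  have hQR : (Q : Subgroup K).map K.subtype ≤ (R : Subgroup G) := by
    rintro x ⟨a, ha, rfl⟩
    rw [hR', Sylow.coe_subgroup_smul, mem_conj]
    rw [hQ, Sylow.coe_subgroup_smul, SetLike.mem_coe, mem_conj] at ha
    exact hR₂ (mem_map_of_mem K.subtype ha)
  refine ⟨P, Q, R, coe_eq_mul_of_relIndex_le hPR hQR ?_⟩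
  set P' := (P : Subgroup H).map H.subtype
  set Q' := (Q : Subgroup K).map K.subtype
  have hH0 : Nat.card H ≠ 0 := Nat.card_pos.ne'
  have hK0 : Nat.card K ≠ 0 := Nat.card_pos.ne'
  have hI0 : Nat.card (H ⊓ K : Subgroup G) ≠ 0 := Nat.card_pos.ne'
  have hfac : (Nat.card H).factorization p + (Nat.card K).factorization p =
      (Nat.card G).factorization p + (Nat.card (H ⊓ K : Subgroup G)).factorization p := by
    have := congrArg (fun n => Nat.factorization n p) (factor_card hHK)
    rw [Nat.factorization_mul hH0 hK0, Nat.factorization_mul Nat.card_pos.ne' hI0] at this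
    simpa using this
  have hPc : Nat.card P' = p ^ (Nat.card H).factorization p := by
    rw [card_map_of_injective H.subtype_injective]; exact P.card_eq_multiplicity
  have hQc : Nat.card Q' = p ^ (Nat.card K).factorization p := by
    rw [card_map_of_injective K.subtype_injective]; exact Q.card_eq_multiplicity
  have h1 := (Q'.subgroupOf R).card_mul_index
  have h2 := (Q'.subgroupOf P').card_mul_index
  rw [← relIndex, Nat.card_congr (subgroupOfEquivOfLe hQR).toEquiv, hQc,
    R.card_eq_multiplicity] at h1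
  rw [← relIndex, hPc] at h2
  obtain ⟨i, hi⟩ : ∃ i, Nat.card (Q'.subgroupOf P') = p ^ i :=
    IsPGroup.iff_card.mp ((P.2.map H.subtype).to_subgroup _)
  have hile : i ≤ (Nat.card (H ⊓ K : Subgroup G)).factorization p := by
    rw [← hp.1.pow_dvd_iff_le_factorization hI0, ← hi,
      ← card_map_of_injective P'.subtype_injective, subgroupOf_map_subtype]
    exact card_dvd_of_le (le_inf (inf_le_right.trans (map_subtype_le _))
      (inf_le_left.trans (map_subtype_le _)))
  rw [hi] at h2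
  refine Nat.le_of_mul_le_mul_left ?_ (pow_pos hp.1.pos ((Nat.card K).factorization p + i))
  calc p ^ ((Nat.card K).factorization p + i) * Q'.relIndex R
      = p ^ i * p ^ (Nat.card G).factorization p := by rw [pow_add, ← h1]; ring
    _ ≤ p ^ ((Nat.card K).factorization p) * p ^ (Nat.card H).factorization p := by
      rw [← pow_add, ← pow_add]
      exact Nat.pow_le_pow_right hp.1.pos (by omega)
    _ = p ^ ((Nat.card K).factorization p + i) * Q'.relIndex P' := by rw [pow_add, ← h2]; ring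

/-- In `G = H K`, the normaliser of `⟨A, B⟩` (`A ◁ H`, `B ◁ K`) factorises. -/
theorem normalizer_sup_factor {H K A B : Subgroup G}
    (hHK : ∀ g : G, ∃ h ∈ H, ∃ k ∈ K, g = h * k) (hA : H ≤ normalizer (A : Set G))
    (hB : K ≤ normalizer (B : Set G)) [Finite G] :
    ∀ g ∈ normalizer ((A ⊔ B : Subgroup G) : Set G),
      ∃ h ∈ normalizer ((A ⊔ B : Subgroup G) : Set G) ⊓ H,
      ∃ k ∈ normalizer ((A ⊔ B : Subgroup G) : Set G) ⊓ K, g = h * k := by
  intro g hg
  obtain ⟨h, hh, k, hk, rfl⟩ := hHK g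
  have hAh : MulAut.conj h⁻¹ • A = A :=
    (mem_normalizer_iff_map_conj_eq.mp (inv_mem (hA hh)) :)
  have hBk : MulAut.conj k⁻¹ • B = B :=
    (mem_normalizer_iff_map_conj_eq.mp (inv_mem (hB hk)) :)
  have hT : MulAut.conj (h * k)⁻¹ • (A ⊔ B) = A ⊔ B :=
    (mem_normalizer_iff_map_conj_eq.mp (inv_mem hg) :)
  have hle : MulAut.conj k⁻¹ • (A ⊔ B) ≤ A ⊔ B := by
    rw [smul_sup, hBk]
    refine sup_le ?_ le_sup_right
    conv_rhs => rw [← hT, smul_sup]
    refine le_trans ?_ le_sup_left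
    rw [mul_inv_rev, map_mul, mul_smul, hAh]
  have hk' : k ∈ normalizer ((A ⊔ B : Subgroup G) : Set G) := by
    refine (inv_mem_iff).mp (mem_normalizer_iff_map_conj_eq.mpr ?_)
    show MulAut.conj k⁻¹ • (A ⊔ B) = A ⊔ B
    exact eq_of_le_of_card_ge hle (Nat.card_congr (equivSMul _ _).toEquiv).le
  have hh' : h ∈ normalizer ((A ⊔ B : Subgroup G) : Set G) := by
    have := mul_mem hg (inv_mem hk')
    rwa [mul_inv_cancel_right] at this
  exact ⟨h, mem_inf.mpr ⟨hh', hh⟩, k, mem_inf.mpr ⟨hk', hk⟩, rfl⟩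

end CfsgLib.Factor
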