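import Cfsg.Agent.S0572
import Mathlib.GroupTheory.Solvable
import Mathlib.GroupTheory.Index
import Mathlib.Tactic

/-!
Derived length of a solvable product of an abelian group and a group of class at most two.
-/

set_option autoImplicit false
set_option linter.style.haveILetI false

open Subgroup
open scoped commutatorElement

namespace CfsgLib.Factor

universe u

/-- If `G = A B` is solvable and generated by `A` and a subgroup `Z ≤ B` central in `B` that
contains the derived group of `B`, then `B` is abelian. -/
theorem commute_of_sup_eq_top {G : Type u} [Group G] [Group.IsSolvable G] (A B Z : Subgroup G)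
    [IsMulCommutative A] (hZB : ∀ z ∈ Z, ∀ b ∈ B, b * z = z * b)
    (hgen : A ⊔ Z = ⊤) (hBZ : ∀ b ∈ B, ∀ b' ∈ B, ⁅b, b'⁆ ∈ Z)
    (hZG : Z ≤ commutator G) (hmin : Z ≤ (⁅B, B⁆ : Subgroup G)) : Z = ⊥ := by
  set π := QuotientGroup.mk' (derivedSeries G 2) with hπdef
  have hπ : Function.Surjective π := QuotientGroup.mk'_surjective _
  have hD2 : derivedSeries G 2 = ⁅commutator G, commutator G⁆ := by
    rw [show (2 : ℕ) = 1 + 1 from rfl, derivedSeries_succ, derivedSeries_one]
  have hGab : ∀ x ∈ commutator G, ∀ y ∈ commutator G, Commute (π x) (π y) := by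
    intro x hx y hy
    rw [← commutatorElement_eq_one_iff_commute, ← map_commutatorElement]
    refine (QuotientGroup.eq_one_iff _).mpr ?_
    rw [hD2]
    exact commutator_mem_commutator hx hy
  have hsup : A ⊔ commutator G = ⊤ := top_le_iff.mp (hgen ▸ sup_le_sup_left hZG A)
  have hdec : ∀ g : G, ∃ n ∈ commutator G, ∃ a ∈ A, g = n * a := by
    intro g
    have : g ∈ commutator G ⊔ A := by rw [sup_comm, hsup]; trivial
    obtain ⟨n, hn, a, ha, e⟩ := mem_sup_of_normal_left.mp this
    exact ⟨n, hn, a, ha, e.symm⟩
  -- the projection of `B` on `A` is central modulo `G''`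
  have hcen : ∀ b ∈ B, ∀ n ∈ commutator G, ∀ a ∈ A, b = n * a → ∀ x : G, Commute (π a) (π x) := by
    intro b hb n hn a ha e x
    have hle : A ⊔ Z ≤ (centralizer ({π a} : Set (G ⧸ derivedSeries G 2))).comap π := by
      refine sup_le (fun u hu => ?_) (fun z hz => ?_) <;>
        rw [mem_comap, mem_centralizer_singleton_iff]
      · rw [← map_mul, ← map_mul, setLike_mul_comm hu ha]
      · have h1 : Commute (π b) (π z) := Commute.map (hZB z hz b hb) π
        have h2 : Commute (π n) (π z) := hGab n hn z (hZG hz)
        have h3 : π a = (π n)⁻¹ * π b := by rw [e, map_mul, inv_mul_cancel_left]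
        rw [h3]
        exact (h2.inv_left.mul_left h1).symm.eq
    have := hle (hgen ▸ mem_top x)
    rw [mem_comap, mem_centralizer_singleton_iff] at this
    exact this.symm
  have hBker : ⁅B, B⁆ ≤ derivedSeries G 2 := by
    rw [commutator_le]
    intro b hb b' hb'
    obtain ⟨n, hn, a, ha, rfl⟩ := hdec b
    obtain ⟨n', hn', a', ha', rfl⟩ := hdec b'
    refine (QuotientGroup.eq_one_iff _).mp ?_
    show π ⁅n * a, n' * a'⁆ = 1
    rw [map_commutatorElement, map_mul, map_mul, commutatorElement_eq_one_iff_commute]
    have c1 : ∀ x, Commute (π a) (π x) := hcen _ hb n hn a ha rfl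
    have c2 : ∀ x, Commute (π a') (π x) := hcen _ hb' n' hn' a' ha' rfl
    exact (Commute.mul_right (hGab n hn n' hn') (c2 n).symm).mul_left
      (Commute.mul_right (c1 n') (c1 a'))
  have hZ2 : Z ≤ derivedSeries G 2 := hmin.trans hBker
  -- modulo `G''` the group is abelian, so `G' = G''`
  have hle : commutator G ≤ derivedSeries G 2 := by
    rw [commutator_def, commutator_le]
    intro x _ y _
    refine (QuotientGroup.eq_one_iff _).mp ?_
    show π ⁅x, y⁆ = 1
    rw [map_commutatorElement, commutatorElement_eq_one_iff_commute]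
    have himg : ∀ g : G, ∃ a ∈ A, π g = π a := by
      intro g
      have hle : A ⊔ Z ≤ (A.map π).comap π := by
        refine sup_le (le_comap_map π A) fun z hz => ?_
        rw [mem_comap, show π z = 1 from (QuotientGroup.eq_one_iff z).mpr (hZ2 hz)]
        exact one_mem _
      obtain ⟨a, ha, he⟩ := mem_map.mp (hle (hgen ▸ mem_top g))
      exact ⟨a, ha, he.symm⟩
    obtain ⟨a, ha, ea⟩ := himg x
    obtain ⟨a', ha', ea'⟩ := himg y
    rw [ea, ea']
    exact Commute.map (setLike_mul_comm ha ha') π
  obtain ⟨k, hk⟩ := Group.IsSolvable.solvable (G := G)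
  have hconst : ∀ j, commutator G ≤ derivedSeries G j := by
    intro j
    induction j with
    | zero => simp
    | succ j ih =>
      refine hle.trans ?_
      rw [hD2, derivedSeries_succ]
      exact commutator_mono ih ih
  exact eq_bot_iff.mpr (hZG.trans ((hconst k).trans hk.le))

theorem map_derivedSeries_add {G : Type u} [Group G] (X : Subgroup G) {m : ℕ}
    (h : derivedSeries G m ≤ X) (j : ℕ) :
    derivedSeries G (m + j) ≤ (derivedSeries X j).map X.subtype := by
  induction j with
  | zero => rwa [add_zero, derivedSeries_zero, ← MonoidHom.range_eq_map, range_subtype]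
  | succ j ih =>
    rw [← add_assoc, derivedSeries_succ, derivedSeries_succ, map_commutator]
    exact commutator_mono ih ih

theorem primeFactorsList_length_lt {m k : ℕ} (hk : k ≠ 0) (hdvd : m ∣ k) (hne : m ≠ k) :
    m.primeFactorsList.length < k.primeFactorsList.length := by
  obtain ⟨c, rfl⟩ := hdvd
  have hc0 : c ≠ 0 := fun e => hk (by simp [e])
  have hm0 : m ≠ 0 := fun e => hk (by simp [e])
  rw [(Nat.perm_primeFactorsList_mul hm0 hc0).length_eq, List.length_append]
  have hc1 : c ≠ 1 := fun e => hne (by simp [e])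
  have : 0 < c.primeFactorsList.length := by
    rw [List.length_pos_iff]
    exact fun e => by
      rcases (Nat.primeFactorsList_eq_nil (n := c)).mp e with h | h
      · exact hc0 h
      · exact hc1 h
  omega

theorem derivedSeries_eq_bot_of_class_two_aux : ∀ (n : ℕ) (G : Type u) [Group G] [Finite G]
    [Group.IsSolvable G] (A B : Subgroup G) [IsMulCommutative A],
    commutator B ≤ center B → (∀ g : G, ∃ a ∈ A, ∃ b ∈ B, g = a * b) →
    (Nat.card (commutator B)).primeFactorsList.length = n →
    derivedSeries G (2 * (1 + n)) = ⊥ := by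
  intro n
  induction n using Nat.strong_induction_on with
  | _ n ih =>
    intro G _ _ _ A B _ hB hAB hn
    have anti : ∀ i j, i ≤ j → derivedSeries G i = ⊥ → derivedSeries G j = ⊥ := by
      intro i j hij h
      induction hij with
      | refl => exact h
      | step _ ih => rw [derivedSeries_succ, ih, commutator_bot_left]
    set Z := (commutator B).map B.subtype with hZ
    have hZB' : Z = ⁅B, B⁆ := map_subtype_commutator B
    have hZc : ∀ z ∈ Z, ∀ b ∈ B, b * z = z * b := by
      rintro _ ⟨z, hz, rfl⟩ b hb
      exact congrArg Subtype.val (mem_center_iff.mp (hB hz) ⟨b, hb⟩)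
    by_cases hZ1 : Z = ⊥
    · have : IsMulCommutative B := by
        refine ⟨⟨fun a b => ?_⟩⟩
        rw [hZ, map_eq_bot_iff_of_injective _ B.subtype_injective] at hZ1
        rw [← commutatorElement_eq_one_iff_mul_comm, ← mem_bot, ← hZ1, commutator_def]
        exact commutator_mem_commutator (mem_top a) (mem_top b)
      exact anti 2 _ (by omega) (Cfsg.Agent.S0572.result A B hAB)
    set X := A ⊔ Z with hX
    -- `G'' ≤ X`
    have hG2 : derivedSeries G 2 ≤ X := by
      let N := normalClosure (Z : Set G)
      have hNX : N ≤ X := by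
        rw [show N = normalClosure (Z : Set G) from rfl, normalClosure, closure_le]
        intro u hu
        obtain ⟨z, hz, hzu⟩ := Group.mem_conjugatesOfSet_iff.mp hu
        obtain ⟨g, rfl⟩ := isConj_iff.mp hzu
        obtain ⟨a, ha, b, hb, rfl⟩ := hAB g
        have e : a * b * z * (a * b)⁻¹ = a * z * a⁻¹ := by
          rw [mul_assoc a b z, hZc z hz b hb]; group
        rw [SetLike.mem_coe, e]
        exact mul_mem (mul_mem (mem_sup_left ha) (mem_sup_right hz)) (inv_mem (mem_sup_left ha))
      set π := QuotientGroup.mk' N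
      haveI : IsMulCommutative (A.map π) := ⟨⟨by
        rintro ⟨_, a, ha, rfl⟩ ⟨_, a', ha', rfl⟩
        apply Subtype.ext
        show π a * π a' = π a' * π a
        rw [← map_mul, ← map_mul, setLike_mul_comm ha ha']⟩⟩
      haveI : IsMulCommutative (B.map π) := ⟨⟨by
        rintro ⟨_, a, ha, rfl⟩ ⟨_, a', ha', rfl⟩
        apply Subtype.ext
        show π a * π a' = π a' * π a
        rw [← commutatorElement_eq_one_iff_mul_comm, ← map_commutatorElement]
        exact (QuotientGroup.eq_one_iff _).mpr (subset_normalClosure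
          (hZB'.symm ▸ commutator_mem_commutator ha ha' : ⁅a, a'⁆ ∈ Z))⟩⟩
      have h := Cfsg.Agent.S0572.result (A.map π) (B.map π) fun y => by
        obtain ⟨g, rfl⟩ := QuotientGroup.mk'_surjective N y
        obtain ⟨a, ha, b, hb, rfl⟩ := hAB g
        exact ⟨_, mem_map_of_mem π ha, _, mem_map_of_mem π hb, map_mul π a b⟩
      have h2 := map_derivedSeries_le_derivedSeries π 2
      rw [h, map_le_iff_le_comap, MonoidHom.comap_bot, QuotientGroup.ker_mk'] at h2
      exact h2.trans hNX
    set A₁ := A.subgroupOf X with hA₁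
    set B₁ := B.subgroupOf X with hB₁
    haveI : IsMulCommutative A₁ :=
      ⟨⟨fun a b => Subtype.ext (Subtype.ext (setLike_mul_comm (show ((a : X) : G) ∈ A from a.2) (show ((b : X) : G) ∈ A from b.2)))⟩⟩
    set Z₁ := (commutator B₁).map B₁.subtype with hZ₁
    have hmapB : B₁.map X.subtype ≤ B := map_comap_le _ _
    have hZ₁Z : Z₁.map X.subtype ≤ Z := by
      rw [hZB', hZ₁, map_subtype_commutator, map_commutator]
      exact commutator_mono hmapB hmapB
    have hB₁c : commutator B₁ ≤ center B₁ := by
      intro x hx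
      rw [mem_center_iff]
      intro y
      exact Subtype.ext (Subtype.ext
        (hZc _ (hZ₁Z ⟨_, ⟨x, hx, rfl⟩, rfl⟩) ((y : X) : G) y.2))
    have hfac : ∀ g : X, ∃ a ∈ A₁, ∃ b ∈ B₁, g = a * b := by
      intro g
      obtain ⟨a, ha, b, hb, e⟩ := hAB g
      have hbX : b ∈ X := by
        have h := mul_mem (inv_mem (mem_sup_left ha : a ∈ X)) g.2
        rwa [e, inv_mul_cancel_left] at h
      exact ⟨⟨a, mem_sup_left ha⟩, ha, ⟨b, hbX⟩, hb, Subtype.ext e⟩
    have hcard : Nat.card (commutator B₁) = Nat.card (Z₁.map X.subtype) := by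
      rw [hZ₁, card_subtype, card_subtype]
    have hcardZ : Nat.card (commutator B) = Nat.card Z := by rw [hZ, card_subtype]
    by_cases heq : Z₁.map X.subtype = Z
    · exfalso
      apply hZ1
      have hgen : A₁ ⊔ Z₁ = ⊤ := by
        have hA : A₁.map X.subtype = A := map_subgroupOf_eq_of_le le_sup_left
        apply map_injective X.subtype_injective
        rw [Subgroup.map_sup, hA, heq, ← MonoidHom.range_eq_map, range_subtype]
      have hBB : Z₁ = ⁅B₁, B₁⁆ := map_subtype_commutator B₁
      have := commute_of_sup_eq_top A₁ B₁ Z₁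
        (by
          rintro _ ⟨z, hz, rfl⟩ b hb
          exact congrArg Subtype.val (mem_center_iff.mp (hB₁c hz) ⟨b, hb⟩))
        hgen (fun b hb b' hb' => hBB.symm ▸ commutator_mem_commutator hb hb')
        (hBB.symm ▸ commutator_mono le_top le_top) hBB.le
      rw [← heq, this, Subgroup.map_bot]
    · have hlt : (Nat.card (commutator B₁)).primeFactorsList.length < n := by
        rw [← hn, hcard, hcardZ]
        refine primeFactorsList_length_lt Nat.card_pos.ne' (card_dvd_of_le hZ₁Z) fun e => heq ?_
        exact eq_of_le_of_card_ge hZ₁Z e.ge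
      have h := ih _ hlt X A₁ B₁ hB₁c hfac rfl
      have h2 := map_derivedSeries_add X hG2 (2 * (1 + (Nat.card (commutator B₁)).primeFactorsList.length))
      rw [h, Subgroup.map_bot, le_bot_iff] at h2
      exact anti _ _ (by omega) h2

end CfsgLib.Factor
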