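import Cfsg.Agent.Lib.Factor.Basic
import Cfsg.Agent.Lib.Solvable.Hall

/-!
In a factorised finite solvable group `G = H K`, normal Hall subgroups of the factors permute.
-/

set_option autoImplicit false

open Subgroup
open scoped Pointwise

namespace CfsgLib.Factor

variable {G : Type*} [Group G] [Finite G]

theorem factorization_of_hall {A : Subgroup G} (hA : (Nat.card A).Coprime A.index) {p : ℕ}
    (hp : p.Prime) (h : p ∣ Nat.card A) :
    (Nat.card A).factorization p = (Nat.card G).factorization p := by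
  rw [← A.card_mul_index, Nat.factorization_mul Nat.card_pos.ne' index_ne_zero_of_finite,
    Finsupp.add_apply, Nat.factorization_eq_zero_of_not_dvd fun h' =>
      hp.ne_one (Nat.eq_one_of_dvd_coprimes hA h h'), add_zero]

/-- Normal Hall subgroups of the two factors multiply to a subgroup. -/
theorem exists_subgroup_mul [Group.IsSolvable G] {H K A B : Subgroup G}
    (hHK : ∀ g : G, ∃ h ∈ H, ∃ k ∈ K, g = h * k) (hA : H ≤ normalizer (A : Set G))
    (hB : K ≤ normalizer (B : Set G)) (hAh : (Nat.card A).Coprime A.index)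
    (hBh : (Nat.card B).Coprime B.index) : ∃ S : Subgroup G, (S : Set G) = (A : Set G) * B := by
  set π : Set ℕ := {p | p ∣ Nat.card A ∨ p ∣ Nat.card B}
  obtain ⟨S, hS, hAS⟩ := CfsgLib.Solvable.exists_isPiHall_ge (π := π) (K := A)
    fun p _ hpd => Or.inl hpd
  obtain ⟨u, hu⟩ := CfsgLib.Solvable.exists_conj_le_isPiHall hS (K := B) fun p _ hpd => Or.inr hpd
  obtain ⟨h, hh, k, hk, rfl⟩ := hHK u
  rw [map_mul, mul_smul, CfsgLib.Solvable.conj_smul_eq_self_iff.mpr (hB hk)] at hu
  set S₀ := MulAut.conj h⁻¹ • S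
  have hA0 : A ≤ S₀ := by
    refine subset_pointwise_smul_iff.mpr ?_
    rw [← map_inv, inv_inv, CfsgLib.Solvable.conj_smul_eq_self_iff.mpr (hA hh)]
    exact hAS
  have hB0 : B ≤ S₀ := by
    refine subset_pointwise_smul_iff.mpr ?_
    rw [← map_inv, inv_inv]
    exact hu
  have hS0 := CfsgLib.Solvable.isPiHall_conj_smul hS h⁻¹
  refine ⟨S₀, coe_eq_mul_of_relIndex_le hA0 hB0 ?_⟩
  have h1 := CfsgLib.Solvable.card_inf_mul_relIndex B A
  have h2 : Nat.card B * B.relIndex S₀ = Nat.card S₀ := by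
    rw [← Nat.card_congr (subgroupOfEquivOfLe hB0).toEquiv]
    exact card_mul_index _
  have hd : Nat.card (B ⊓ A : Subgroup G) * Nat.card S₀ ∣ Nat.card A * Nat.card B := by
    rw [← Nat.factorization_prime_le_iff_dvd (mul_ne_zero Nat.card_pos.ne' Nat.card_pos.ne')
      (mul_ne_zero Nat.card_pos.ne' Nat.card_pos.ne')]
    intro p hp
    rw [Nat.factorization_mul Nat.card_pos.ne' Nat.card_pos.ne',
      Nat.factorization_mul Nat.card_pos.ne' Nat.card_pos.ne', Finsupp.add_apply, Finsupp.add_apply]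
    have hiA := (Nat.factorization_le_iff_dvd Nat.card_pos.ne' Nat.card_pos.ne').mpr
      (card_dvd_of_le (inf_le_right : B ⊓ A ≤ A)) p
    have hiB := (Nat.factorization_le_iff_dvd Nat.card_pos.ne' Nat.card_pos.ne').mpr
      (card_dvd_of_le (inf_le_left : B ⊓ A ≤ B)) p
    have hsG := (Nat.factorization_le_iff_dvd Nat.card_pos.ne' Nat.card_pos.ne').mpr
      (card_subgroup_dvd_card S₀) p
    by_cases ha : p ∣ Nat.card A
    · have := factorization_of_hall hAh hp ha
      omega
    · by_cases hb : p ∣ Nat.card B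
      · have := factorization_of_hall hBh hp hb
        omega
      · have h3 : (Nat.card S₀).factorization p = 0 :=
          Nat.factorization_eq_zero_of_not_dvd fun h => (hS0.1 p hp h).elim ha hb
        omega
  have h3 : (Nat.card (B ⊓ A : Subgroup G) * Nat.card B) * B.relIndex S₀ ≤
      (Nat.card (B ⊓ A : Subgroup G) * Nat.card B) * B.relIndex A := by
    calc _ = Nat.card (B ⊓ A : Subgroup G) * Nat.card S₀ := by rw [mul_assoc, h2]
      _ ≤ Nat.card A * Nat.card B := Nat.le_of_dvd (Nat.mul_pos Nat.card_pos Nat.card_pos) hd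
      _ = _ := by rw [← h1]; ring
  exact Nat.le_of_mul_le_mul_left h3 (Nat.mul_pos Nat.card_pos Nat.card_pos)

/-- The same for arbitrary conjugates. -/
theorem exists_subgroup_conj_mul [Group.IsSolvable G] {H K A B : Subgroup G}
    (hHK : ∀ g : G, ∃ h ∈ H, ∃ k ∈ K, g = h * k) (hA : H ≤ normalizer (A : Set G))
    (hB : K ≤ normalizer (B : Set G)) (hAh : (Nat.card A).Coprime A.index)
    (hBh : (Nat.card B).Coprime B.index) (x y : G) :
    ∃ S : Subgroup G, (S : Set G) =
      ((MulAut.conj x • A : Subgroup G) : Set G) * ((MulAut.conj y • B : Subgroup G) : Set G) := by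
  obtain ⟨S, hS⟩ := exists_subgroup_mul hHK hA hB hAh hBh
  obtain ⟨h, hh, k, hk, he⟩ := hHK (x⁻¹ * y)
  set g := x * h with hg
  have hgy : g = y * k⁻¹ := by
    rw [hg, eq_mul_inv_iff_mul_eq, mul_assoc, ← he, mul_inv_cancel_left]
  have h1 : MulAut.conj g • A = MulAut.conj x • A := by
    rw [hg, map_mul, mul_smul, CfsgLib.Solvable.conj_smul_eq_self_iff.mpr (hA hh)]
  have h2 : MulAut.conj g • B = MulAut.conj y • B := by
    rw [hgy, map_mul, mul_smul, CfsgLib.Solvable.conj_smul_eq_self_iff.mpr (inv_mem (hB hk))]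
  refine ⟨MulAut.conj g • S, ?_⟩
  rw [← h1, ← h2, coe_pointwise_smul, coe_pointwise_smul, coe_pointwise_smul, hS, smul_mul']

end CfsgLib.Factor
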