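import Cfsg.Agent.Lib.Factor.KegelWielandt
import Cfsg.Agent.Lib.Transfer.PGroup

/-!
A proper normal subgroup contains one of the nilpotent factors.
-/

set_option autoImplicit false

open Subgroup
open scoped Pointwise

namespace CfsgLib.Factor

open Wielandt (part part_le part_pgroup part_card part_normal le_part part_ne_bot)

universe u

theorem exists_normal_ne_top_ge {G : Type u} [Group G] [Finite G] {A B : Subgroup G}
    (hA : Group.IsNilpotent A) (hB : Group.IsNilpotent B)
    (hAB : ∀ g : G, ∃ a ∈ A, ∃ b ∈ B, g = a * b) (hproper : A ≠ ⊤ ∨ B ≠ ⊤) :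
    ∃ N : Subgroup G, N.Normal ∧ N ≠ ⊤ ∧ (A ≤ N ∨ B ≤ N) := by
  revert hA hB hAB hproper A B
  refine CfsgLib.Supersolvable.groupInduction (P := fun G [Group G] [Finite G] =>
    ∀ {A B : Subgroup G}, Group.IsNilpotent A → Group.IsNilpotent B →
      (∀ g : G, ∃ a ∈ A, ∃ b ∈ B, g = a * b) → (A ≠ ⊤ ∨ B ≠ ⊤) →
      ∃ N : Subgroup G, N.Normal ∧ N ≠ ⊤ ∧ (A ≤ N ∨ B ≤ N)) ?_ G
  intro G _ _ ih
  -- it suffices to treat the case that `A` is proper
  suffices h : ∀ {A B : Subgroup G}, Group.IsNilpotent A → Group.IsNilpotent B →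
      (∀ g : G, ∃ a ∈ A, ∃ b ∈ B, g = a * b) → A ≠ ⊤ →
      ∃ N : Subgroup G, N.Normal ∧ N ≠ ⊤ ∧ (A ≤ N ∨ B ≤ N) by
    intro A B hA hB hAB hproper
    rcases hproper with hp | hp
    · exact h hA hB hAB hp
    · obtain ⟨N, hN, hNt, hle⟩ := h hB hA (factor_symm hAB) hp
      exact ⟨N, hN, hNt, hle.symm⟩
  intro A B hA hB hAB hAt
  by_cases hnil : Group.IsNilpotent G
  · obtain ⟨M, hM, hle⟩ := (eq_top_or_exists_le_coatom A).resolve_left hAt
    exact ⟨M, NormalizerCondition.normal_of_coatom M Group.normalizerCondition_of_isNilpotent hM,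
      hM.1, Or.inl hle⟩
  have hsol := isSolvable_of_nilpotent_factor hA hB hAB
  have : Nontrivial G := by
    by_contra hn
    rw [not_nontrivial_iff_subsingleton] at hn
    exact hnil inferInstance
  obtain ⟨N, hN, hN1, -, hmin⟩ :=
    CfsgLib.Solvable.exists_minimal_normal_le (⊤ : Subgroup G) top_ne_bot
  obtain ⟨hNc, p, hp, hNp⟩ := CfsgLib.Solvable.minimal_normal_elementary_abelian N hN1 hmin
  have hNcomm : ∀ a ∈ N, ∀ b ∈ N, a * b = b * a := fun a ha b hb =>
    congrArg Subtype.val (hNc.is_comm.comm (⟨a, ha⟩ : N) ⟨b, hb⟩)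
  -- reduction to a quotient
  have hred : ∀ M : Subgroup G, M.Normal → M ≠ ⊥ → ∀ [M.Normal],
      (A.map (QuotientGroup.mk' M) ≠ ⊤ ∨ B.map (QuotientGroup.mk' M) ≠ ⊤) →
      ∃ N : Subgroup G, N.Normal ∧ N ≠ ⊤ ∧ (A ≤ N ∨ B ≤ N) := by
    intro M _ hM _ hpr
    have h1 : Group.IsNilpotent (A.map (QuotientGroup.mk' M)) := by
      have := hA
      exact Group.nilpotent_of_surjective _ ((QuotientGroup.mk' M).subgroupMap_surjective A)
    have h2 : Group.IsNilpotent (B.map (QuotientGroup.mk' M)) := by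
      have := hB
      exact Group.nilpotent_of_surjective _ ((QuotientGroup.mk' M).subgroupMap_surjective B)
    obtain ⟨K, hK, hKt, hle⟩ := ih (G ⧸ M) (CfsgLib.Supersolvable.card_quotient_lt hM) h1 h2
      (fun g => by
        obtain ⟨g, rfl⟩ := QuotientGroup.mk'_surjective M g
        obtain ⟨a, ha, b, hb, rfl⟩ := hAB g
        exact ⟨_, mem_map_of_mem _ ha, _, mem_map_of_mem _ hb, map_mul _ _ _⟩) hpr
    refine ⟨K.comap (QuotientGroup.mk' M), hK.comap _, fun e => hKt ?_,
      hle.imp map_le_iff_le_comap.mp map_le_iff_le_comap.mp⟩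
    rw [← comap_top (QuotientGroup.mk' M)] at e
    exact comap_injective (QuotientGroup.mk'_surjective M) e
  have hmk : ∀ (C M : Subgroup G) [M.Normal], C.map (QuotientGroup.mk' M) = ⊤ → M ⊔ C = ⊤ := by
    intro C M _ e
    have h := congrArg (Subgroup.comap (QuotientGroup.mk' M)) e
    rwa [comap_map_eq, QuotientGroup.ker_mk', comap_top, sup_comm] at h
  by_cases hq : A.map (QuotientGroup.mk' N) ≠ ⊤ ∨ B.map (QuotientGroup.mk' N) ≠ ⊤
  · exact hred N hN hN1 hq
  push Not at hq
  have hNA := hmk A N hq.1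
  have hNB := hmk B N hq.2
  have hnormal : ∀ X : Subgroup G, N ≤ normalizer (X : Set G) → A ≤ normalizer (X : Set G) →
      X.Normal := fun X h1 h2 => normalizer_eq_top_iff.mp (top_le_iff.mp (hNA ▸ sup_le h1 h2))
  have hAn : A ≤ normalizer (N : Set G) := by rw [normalizer_eq_top]; exact le_top
  have hab : ∀ Y : Subgroup G, Y ≤ N → N ≤ normalizer (Y : Set G) := fun Y hY n hn =>
    centralizer_le_normalizer _ (mem_centralizer_iff.mpr fun y hy => hNcomm y (hY hy) n hn)
  have hANbot : N ⊓ A = ⊥ := by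
    have h1 : (N ⊓ A).Normal := hnormal _ (hab _ inf_le_left)
      (fun a ha => by
        rw [← CfsgLib.Solvable.conj_smul_eq_self_iff, smul_inf,
          CfsgLib.Solvable.conj_smul_eq_self_iff.mpr (hAn ha), conj_smul_of_mem ha])
    refine (hmin _ h1 inf_le_left).resolve_right fun e => hAt ?_
    rw [← hNA, sup_eq_right.mpr (e ▸ inf_le_right)]
  set K := A ⊓ centralizer (N : Set G) with hK
  have hKn : K.Normal := hnormal K
    ((le_centralizer_iff.mp (inf_le_right : K ≤ centralizer (N : Set G))).trans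
      (centralizer_le_normalizer _))
    (fun a ha => by
      rw [← CfsgLib.Solvable.conj_smul_eq_self_iff, smul_inf, conj_smul_of_mem ha,
        CfsgLib.Solvable.conj_smul_eq_self_iff.mpr]
      rw [normalizer_eq_top]
      trivial)
  by_cases hK1 : K ≠ ⊥
  · refine hred K hKn hK1 (Or.inl fun e => hAt ?_)
    rw [← hmk A K e, sup_eq_right.mpr inf_le_left]
  push Not at hK1
  have := Fact.mk hp
  have hNpg : IsPGroup p N := fun x => ⟨1, Subtype.ext (by simpa using hNp x x.2)⟩
  have hpA : ¬ p ∣ Nat.card A := by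
    intro hpA
    set P := part A p with hP
    have hPn : P ≤ normalizer (N : Set G) := by rw [normalizer_eq_top]; exact le_top
    set X := N ⊔ P with hX
    have hXp : IsPGroup p X := hNpg.to_sup_of_normal_left' part_pgroup hPn
    have := hXp.isNilpotent
    have hne : N.subgroupOf X ≠ ⊥ := fun e => hN1 (by
      rw [← map_subgroupOf_eq_of_le (le_sup_left : N ≤ X), e, Subgroup.map_bot])
    obtain ⟨⟨z, hz⟩, hz1⟩ :=
      ne_bot_iff_exists_ne_one.mp (CfsgLib.Transfer.inf_center_ne_bot hne)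
    set Z := N ⊓ centralizer (P : Set G) with hZ
    have hzZ : (z : G) ∈ Z := ⟨mem_subgroupOf.mp hz.1, mem_centralizer_iff.mpr fun b hb =>
      congrArg Subtype.val (mem_center_iff.mp hz.2 ⟨b, mem_sup_right hb⟩)⟩
    have hZn : Z.Normal := hnormal Z (hab _ inf_le_left)
      (fun a ha => by
        rw [← CfsgLib.Solvable.conj_smul_eq_self_iff, smul_inf,
          CfsgLib.Solvable.conj_smul_eq_self_iff.mpr (hAn ha),
          CfsgLib.Solvable.conj_smul_eq_self_iff.mpr]
        refine mem_normalizer_iff.mpr fun c => ?_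
        have key : ∀ e ∈ normalizer (P : Set G), ∀ c ∈ centralizer (P : Set G),
            e * c * e⁻¹ ∈ centralizer (P : Set G) := fun e he c hc => by
          refine mem_centralizer_iff.mpr fun b hb => ?_
          have h1 := mem_centralizer_iff.mp hc _
            ((mem_normalizer_iff.mp (inv_mem he) b).mp hb)
          calc b * (e * c * e⁻¹) = e * ((e⁻¹ * b * e⁻¹⁻¹) * c) * e⁻¹ := by group
            _ = e * (c * (e⁻¹ * b * e⁻¹⁻¹)) * e⁻¹ := by rw [h1]
            _ = _ := by group
        refine ⟨key a (part_normal hA ha) c, fun hc => ?_⟩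
        simpa [mul_assoc] using key a⁻¹ (inv_mem (part_normal hA ha)) _ hc)
    rcases hmin Z hZn inf_le_left with h0 | h0
    · rw [h0, mem_bot] at hzZ
      exact hz1 (Subtype.ext (Subtype.ext hzZ))
    · refine part_ne_bot hpA (le_bot_iff.mp (hK1 ▸ le_inf part_le (le_centralizer_iff.mp ?_)))
      rw [← h0]
      exact inf_le_right
  exfalso
  -- `N` is the normal Sylow `p`-subgroup, so `N ≤ B`
  have hcard : Nat.card G = Nat.card N * Nat.card A := by
    rw [← CfsgLib.Solvable.card_sup_of_disjoint hAn (disjoint_iff.mpr hANbot), hNA, card_top]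
  have hindex : N.index = Nat.card A := by
    have h1 := N.card_mul_index
    rw [hcard] at h1
    exact Nat.eq_of_mul_eq_mul_left Nat.card_pos h1
  have hNB' : N ≤ B := by
    obtain ⟨k, hk⟩ := IsPGroup.iff_card.mp hNpg
    have hdvd : Nat.card N ∣ Nat.card B := by
      have h1 : Nat.card N * Nat.card A ∣ Nat.card A * Nat.card B := by
        rw [← hcard, factor_card hAB]
        exact dvd_mul_right _ _
      rw [mul_comm] at h1
      exact Nat.dvd_of_mul_dvd_mul_left Nat.card_pos h1
    have hPN : part B p ≤ N := CfsgLib.HallComplement.le_of_normal_hall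
      (Wielandt.coprime_of_pgroup hp part_pgroup (by rwa [hindex]))
    have hle : Nat.card N ≤ Nat.card (part B p) := by
      rw [part_card, hk]
      refine Nat.pow_le_pow_right hp.pos ?_
      rw [← hp.pow_dvd_iff_le_factorization Nat.card_pos.ne', ← hk]
      exact hdvd
    exact (eq_of_le_of_card_ge hPN hle).ge.trans part_le
  have hBt : B = ⊤ := by rw [← hNB, sup_eq_right.mpr hNB']
  exact hnil (Group.isNilpotent_top.mp (hBt ▸ hB))

end CfsgLib.Factor
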