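import Cfsg.Agent.Lib.Factor.Basic
import Cfsg.Agent.Lib.Factor.HallPermute
import Cfsg.Agent.Lib.Factor.NilpotentHall
import Cfsg.Agent.Lib.HallComplement.Basic
import Cfsg.Agent.Lib.Supersolvable.Basic
import Cfsg.Agent.Lib.Char.Burnside
import Cfsg.Agent.S0566

/-!
Wielandt: a product of two nilpotent subgroups of coprime orders is solvable.
-/

set_option autoImplicit false

open Subgroup
open scoped Pointwise

namespace CfsgLib.Factor.Wielandt

section Parts

variable {G : Type*} [Group G] [Finite G] {A B : Subgroup G} {r : ℕ}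

/-- A chosen Sylow `r`-subgroup of `A`. -/
noncomputable def part (A : Subgroup G) (r : ℕ) : Subgroup G :=
  ((default : Sylow r A) : Subgroup A).map A.subtype

theorem part_le : part A r ≤ A := map_subtype_le _

theorem part_pgroup : IsPGroup r (part A r) := (default : Sylow r A).2.map _

variable [hr : Fact r.Prime]

theorem part_card : Nat.card (part A r) = r ^ (Nat.card A).factorization r := by
  rw [part, card_map_of_injective A.subtype_injective]
  exact (default : Sylow r A).card_eq_multiplicity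

theorem part_normal (hA : Group.IsNilpotent A) : A ≤ normalizer (part A r : Set G) := by
  have := hA
  have h := le_normalizer_map A.subtype (H := ((default : Sylow r A) : Subgroup A))
  rwa [normalizer_eq_top, ← MonoidHom.range_eq_map, range_subtype] at h

theorem le_part (hA : Group.IsNilpotent A) {P : Subgroup G} (hPA : P ≤ A) (hP : IsPGroup r P) :
    P ≤ part A r := by
  have := hA
  obtain ⟨Q, hQ⟩ := (hP.comap_of_injective A.subtype A.subtype_injective).exists_le_sylow
  rw [← CfsgLib.MinNonNilp.sylow_eq_of_normal default Q inferInstance] at hQ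
  intro x hx
  exact mem_map_of_mem A.subtype (hQ (mem_comap.mpr hx : (⟨x, hPA hx⟩ : A) ∈ P.comap A.subtype))

theorem part_ne_bot (h : r ∣ Nat.card A) : part A r ≠ ⊥ := fun e => by
  have h1 := part_card (A := A) (r := r)
  rw [e, card_bot] at h1
  have h2 : 0 < (Nat.card A).factorization r := hr.out.factorization_pos_of_dvd Nat.card_pos.ne' h
  exact absurd h1 (Nat.one_lt_pow h2.ne' hr.out.one_lt).ne

theorem part_not_dvd_index (hA : (Nat.card A).Coprime A.index) (h : r ∣ Nat.card A) :
    ¬ r ∣ (part A r).index := by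
  rw [part, index_map_subtype, hr.out.dvd_mul]
  rintro (h1 | h1)
  · exact (default : Sylow r A).not_dvd_index h1
  · exact hr.out.ne_one (Nat.eq_one_of_dvd_coprimes hA h h1)

theorem part_coprime_index (hA : (Nat.card A).Coprime A.index) (h : r ∣ Nat.card A) :
    (Nat.card (part A r)).Coprime (part A r).index := by
  rw [part_card]
  exact Nat.Coprime.pow_left _ (hr.out.coprime_iff_not_dvd.mpr (part_not_dvd_index hA h))

/-- Distinct parts centralise each other; more generally an `s`-subgroup centralises `part A r`. -/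
theorem part_comm (hA : Group.IsNilpotent A) {s : ℕ} [Fact s.Prime] (hrs : r ≠ s) {P : Subgroup G}
    (hPA : P ≤ A) (hP : IsPGroup s P) : part A r ≤ centralizer (P : Set G) :=
  CfsgLib.MinNonNilp.commute_of_le_nilpotent hA hrs part_pgroup hP part_le hPA

theorem mem_norm_part (hA : Group.IsNilpotent A) {g : G}
    (h : MulAut.conj g • part A r ≤ A) : g ∈ normalizer (part A r : Set G) :=
  CfsgLib.Solvable.conj_smul_eq_self_iff.mp (eq_of_le_of_card_ge
    (le_part hA h (part_pgroup.map _)) (CfsgLib.Solvable.card_conj_smul g _).ge)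

/-- The centre of a nilpotent subgroup meets each part. -/
theorem exists_central_part (hA : Group.IsNilpotent A) (h : r ∣ Nat.card A) :
    ∃ z ∈ part A r, z ≠ 1 ∧ A ≤ centralizer {z} := by
  have : Nontrivial (part A r) := (nontrivial_iff_ne_bot _).mpr (part_ne_bot h)
  have := (part_pgroup (A := A) (r := r)).center_nontrivial
  obtain ⟨⟨z, hz⟩, hz1⟩ := exists_ne (1 : center (part A r))
  refine ⟨z, z.2, fun e => hz1 (Subtype.ext (Subtype.ext e)), ?_⟩
  rw [← subgroupOf_eq_top]
  refine CfsgLib.MinNonNilp.eq_top_of_forall_sylow fun s hs _ => ⟨default, fun a ha => ?_⟩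
  rw [mem_subgroupOf, mem_centralizer_singleton_iff]
  have ha' : (a : G) ∈ part A s := mem_map_of_mem _ ha
  by_cases hsr : s = r
  · subst hsr
    exact congrArg Subtype.val (mem_center_iff.mp hz ⟨a, ha'⟩)
  · exact (mem_centralizer_iff.mp (part_comm hA hsr part_le part_pgroup ha') _ z.2).symm

omit hr in
theorem exists_prime_dvd (hA : A ≠ ⊥) : ∃ r : ℕ, r.Prime ∧ r ∣ Nat.card A :=
  Nat.exists_prime_and_dvd fun e => hA (eq_bot_of_card_eq A e)

omit hr [Finite G] in
theorem centralizer_singleton_le_normalizer (z : G) :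
    centralizer {z} ≤ normalizer (zpowers z : Set G) := by
  intro a ha
  refine centralizer_le_normalizer _ (mem_centralizer_iff.mpr fun b hb => ?_)
  obtain ⟨j, rfl⟩ := mem_zpowers_iff.mp hb
  exact (Commute.zpow_left (mem_centralizer_singleton_iff.mp ha).symm j).eq

omit hr in
/-- A product of a `b`-coprime pair inside a group of order dividing `|X| b` lies in `X`. -/
theorem sup_le_of_coprime {N H X : Subgroup G} {b : ℕ} (hH : H ≤ normalizer (N : Set G))
    (hX : X ≤ N ⊔ H) (hN : (Nat.card N).Coprime b) (hH' : (Nat.card H).Coprime b)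
    (hdvd : Nat.card (N ⊔ H : Subgroup G) ∣ Nat.card X * b) : N ⊔ H ≤ X :=
  (eq_of_le_of_card_ge hX (Nat.le_of_dvd Nat.card_pos
    (Nat.Coprime.dvd_of_dvd_mul_right
      ((Nat.Coprime.mul_left hN hH').coprime_dvd_left (CfsgLib.Solvable.card_sup_dvd hH)) hdvd))).ge

omit hr [Finite G] in
theorem le_normalizer_map_subtype {L : Subgroup G} (N : Subgroup L) [N.Normal] :
    L ≤ normalizer (N.map L.subtype : Set G) := by
  have h := le_normalizer_map L.subtype (H := N)
  rwa [normalizer_eq_top, ← MonoidHom.range_eq_map, range_subtype] at h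

omit hr in
theorem centralizer_factor {A B : Subgroup G} (hinf : A ⊓ B = ⊥)
    (hAB : ∀ g : G, ∃ a ∈ A, ∃ b ∈ B, g = a * b) {t : G} (ht : t ∈ B)
    (htA : t ∈ normalizer (A : Set G)) :
    ∀ g ∈ centralizer {t}, ∃ a ∈ centralizer {t} ⊓ A, ∃ b ∈ centralizer {t} ⊓ B, g = a * b := by
  intro g hg
  obtain ⟨a, ha, b, hb, rfl⟩ := hAB g
  rw [mem_centralizer_singleton_iff] at hg
  have hmem : a⁻¹ * (t * a * t⁻¹) ∈ A ⊓ B := by
    refine ⟨A.mul_mem (A.inv_mem ha) ((mem_normalizer_iff.mp htA a).mp ha), ?_⟩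
    have : a⁻¹ * (t * a * t⁻¹) = b * t * b⁻¹ * t⁻¹ := by
      calc a⁻¹ * (t * a * t⁻¹) = a⁻¹ * (t * (a * b)) * b⁻¹ * t⁻¹ := by group
        _ = a⁻¹ * ((a * b) * t) * b⁻¹ * t⁻¹ := by rw [hg]
        _ = _ := by group
    rw [this]
    exact B.mul_mem (B.mul_mem (B.mul_mem hb ht) (B.inv_mem hb)) (B.inv_mem ht)
  rw [hinf, mem_bot, inv_mul_eq_one] at hmem
  have hat : a * t = t * a := eq_mul_inv_iff_mul_eq.mp hmem
  have hbt : b * t = t * b := by
    apply mul_left_cancel (a := a)
    rw [← mul_assoc, hg, ← mul_assoc t a b, ← hat, mul_assoc]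
  exact ⟨a, ⟨mem_centralizer_singleton_iff.mpr hat, ha⟩, b,
    ⟨mem_centralizer_singleton_iff.mpr hbt, hb⟩, rfl⟩

end Parts

universe u

/-- A minimal counterexample. -/
structure Counter (G : Type u) [Group G] [Finite G] (A B : Subgroup G) : Prop where
  nilA : Group.IsNilpotent A
  nilB : Group.IsNilpotent B
  cop : (Nat.card A).Coprime (Nat.card B)
  fac : ∀ g : G, ∃ a ∈ A, ∃ b ∈ B, g = a * b
  nsolv : ¬ Group.IsSolvable G
  simple : IsSimpleGroup G
  sub : ∀ L : Subgroup G, L ≠ ⊤ → (∀ g ∈ L, ∃ a ∈ L ⊓ A, ∃ b ∈ L ⊓ B, g = a * b) →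
    Group.IsSolvable L

variable {G : Type u} [Group G] [Finite G] {A B : Subgroup G} (h : Counter G A B)
include h

theorem Counter.symm : Counter G B A where
  nilA := h.nilB
  nilB := h.nilA
  cop := h.cop.symm
  fac := factor_symm h.fac
  nsolv := h.nsolv
  simple := h.simple
  sub L hL hfac := h.sub L hL fun g hg => by
    obtain ⟨b, hb, a, ha, he⟩ := hfac g⁻¹ (L.inv_mem hg)
    exact ⟨a⁻¹, inv_mem ha, b⁻¹, inv_mem hb, by rw [← mul_inv_rev, ← he, inv_inv]⟩

theorem Counter.inf_eq : A ⊓ B = ⊥ := Subgroup.inf_eq_bot_of_coprime h.cop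

theorem Counter.card_eq : Nat.card G = Nat.card A * Nat.card B := by
  rw [factor_card h.fac, h.inf_eq, card_bot, mul_one]

theorem Counter.index_eq : A.index = Nat.card B := by
  have h1 := A.card_mul_index
  rw [h.card_eq] at h1
  exact Nat.eq_of_mul_eq_mul_left Nat.card_pos h1

theorem Counter.hall : (Nat.card A).Coprime A.index := by rw [h.index_eq]; exact h.cop

theorem Counter.ne_top : A ≠ ⊤ := fun e => h.nsolv <| by
  have := h.nilA
  have : Group.IsSolvable A := inferInstance
  exact Group.isSolvable_of_surjective (f := A.subtype)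
    (MonoidHom.range_eq_top.mp (by rw [range_subtype, e]))

theorem Counter.ne_bot : A ≠ ⊥ := fun e => h.symm.ne_top <| eq_top_iff.mpr fun g _ => by
  obtain ⟨a, ha, b, hb, rfl⟩ := h.fac g
  rw [e, mem_bot] at ha
  rwa [ha, one_mul]

theorem Counter.center_eq : center G = ⊥ := by
  have := h.simple
  refine (IsSimpleGroup.eq_bot_or_eq_top_of_normal (center G) inferInstance).resolve_right fun e => ?_
  exact h.nsolv (Group.isSolvable_of_comm fun a b => (mem_center_iff.mp (e ▸ mem_top a) b).symm)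

theorem Counter.norm_ne_top {T : Subgroup G} (h1 : T ≠ ⊥) (h2 : T ≠ ⊤) :
    normalizer (T : Set G) ≠ ⊤ := fun e => by
  have := h.simple
  exact (IsSimpleGroup.eq_bot_or_eq_top_of_normal T (normalizer_eq_top_iff.mp e)).elim h1 h2

theorem Counter.cent_ne_top {x : G} (hx : x ≠ 1) : centralizer {x} ≠ ⊤ := fun e => hx <| by
  have : x ∈ center G := mem_center_iff.mpr fun g =>
    mem_centralizer_singleton_iff.mp (e ▸ mem_top g)
  rwa [h.center_eq, mem_bot] at this

theorem Counter.fac_of_le {L : Subgroup G} (hAL : A ≤ L) :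
    ∀ g ∈ L, ∃ a ∈ L ⊓ A, ∃ b ∈ L ⊓ B, g = a * b := by
  intro g hg
  obtain ⟨a, ha, b, hb, rfl⟩ := h.fac g
  exact ⟨a, ⟨hAL ha, ha⟩, b, ⟨by simpa using L.mul_mem (L.inv_mem (hAL ha)) hg, hb⟩, rfl⟩

theorem Counter.card_fac {L : Subgroup G}
    (hL : ∀ g ∈ L, ∃ a ∈ L ⊓ A, ∃ b ∈ L ⊓ B, g = a * b) :
    Nat.card L = Nat.card (L ⊓ A : Subgroup G) * Nat.card (L ⊓ B : Subgroup G) := by
  refine le_antisymm ?_ (Nat.le_of_dvd Nat.card_pos ?_)
  · rw [← Nat.card_prod]
    refine Nat.card_le_card_of_surjective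
      (fun p : (L ⊓ A : Subgroup G) × (L ⊓ B : Subgroup G) =>
        (⟨p.1 * p.2, L.mul_mem p.1.2.1 p.2.2.1⟩ : L)) fun g => ?_
    obtain ⟨a, ha, b, hb, he⟩ := hL g g.2
    exact ⟨(⟨a, ha⟩, ⟨b, hb⟩), Subtype.ext he.symm⟩
  · exact ((h.cop.coprime_dvd_left (card_dvd_of_le inf_le_right)).coprime_dvd_right
      (card_dvd_of_le inf_le_right)).mul_dvd_of_dvd_of_dvd (card_dvd_of_le inf_le_left)
      (card_dvd_of_le inf_le_left)

/-- Normal subgroups of a factorised subgroup of order prime to `|B|` lie in `A`. -/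
theorem Counter.le_left {L N : Subgroup G}
    (hL : ∀ g ∈ L, ∃ a ∈ L ⊓ A, ∃ b ∈ L ⊓ B, g = a * b) (hNL : N ≤ L)
    (hn : L ≤ normalizer (N : Set G)) (hN : (Nat.card N).Coprime (Nat.card B)) : N ≤ A := by
  refine le_trans le_sup_left (le_trans (sup_le_of_coprime (X := L ⊓ A) (H := L ⊓ A)
    (inf_le_left.trans hn) le_sup_right (b := Nat.card (L ⊓ B : Subgroup G))
    (hN.coprime_dvd_right (card_dvd_of_le inf_le_right))
    ((h.cop.coprime_dvd_left (card_dvd_of_le inf_le_right)).coprime_dvd_right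
      (card_dvd_of_le inf_le_right)) ?_) inf_le_right)
  rw [← h.card_fac hL]
  exact card_dvd_of_le (sup_le hNL inf_le_left)

theorem Counter.le_of_normalizing {H : Subgroup G} (hH : H ≤ normalizer (A : Set G))
    (hc : (Nat.card H).Coprime (Nat.card B)) : H ≤ A :=
  le_trans le_sup_right (sup_le_of_coprime hH le_sup_left h.cop hc
    (h.card_eq ▸ card_subgroup_dvd_card _))

omit h in
theorem coprime_of_pgroup {s n : ℕ} (hs : s.Prime) {N : Subgroup G} (hN : IsPGroup s N)
    (hn : ¬ s ∣ n) : (Nat.card N).Coprime n := by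
  have := Fact.mk hs
  obtain ⟨k, hk⟩ := IsPGroup.iff_card.mp hN
  rw [hk]
  exact Nat.Coprime.pow_left k (hs.coprime_iff_not_dvd.mpr hn)

theorem Counter.not_dvd_of_dvd {s : ℕ} (hs : s.Prime) (h1 : s ∣ Nat.card A) :
    ¬ s ∣ Nat.card B := fun h2 => hs.ne_one (Nat.eq_one_of_dvd_coprimes h.cop h1 h2)

theorem Counter.prime_cases {s : ℕ} (hs : s.Prime) {N : Subgroup G} (hN : IsPGroup s N)
    (hN1 : N ≠ ⊥) : s ∣ Nat.card A ∨ s ∣ Nat.card B := by
  have := Fact.mk hs
  obtain ⟨k, hk⟩ := IsPGroup.iff_card.mp hN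
  have hk0 : k ≠ 0 := fun e => hN1 (eq_bot_of_card_eq N (by rw [hk, e, pow_zero]))
  refine hs.dvd_mul.mp ?_
  rw [← h.card_eq]
  exact ((dvd_pow_self s hk0).trans hk.symm.dvd).trans (card_subgroup_dvd_card N)

/-- Burnside: `|A|` has two prime divisors. -/
theorem Counter.exists_other_prime (r : ℕ) :
    ∃ s : ℕ, s.Prime ∧ s ∣ Nat.card A ∧ s ≠ r := by
  by_contra hall
  push Not at hall
  obtain ⟨s, hs, hsd⟩ := exists_prime_dvd h.ne_bot
  obtain rfl := hall s hs hsd
  have := Fact.mk hs
  obtain ⟨q, hq, hqd⟩ := exists_prime_dvd h.symm.ne_bot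
  have := Fact.mk hq
  obtain ⟨y, -, hy1, hyB⟩ := exists_central_part h.nilB hqd
  have hA : ∃ k, Nat.card A = s ^ k := ⟨_, Nat.eq_prime_pow_of_unique_prime_dvd Nat.card_pos.ne'
    fun {d} hd hdd => hall d hd hdd⟩
  obtain ⟨k, hk⟩ := hA
  have hdvd : (centralizer {y}).index ∣ s ^ k := by
    rw [← hk, ← h.symm.index_eq]
    exact index_dvd_of_le hyB
  obtain ⟨j, -, hj⟩ := (Nat.dvd_prime_pow hs).mp hdvd
  have := h.simple
  have hp := CfsgLib.Char.card_prime_of_prime_pow_class s j hs y hy1 hj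
  have := Fact.mk hp
  have := isCyclic_of_prime_card (α := G) rfl
  exact h.nsolv (Group.isSolvable_of_comm fun a b => IsCyclic.commutative.is_comm.comm a b)

/-- Kegel's criterion in a simple group. -/
theorem Counter.kegel {U V S : Subgroup G} (hU : U ≠ ⊥) (hV : V ≠ ⊥)
    (hUn : A ≤ normalizer (U : Set G)) (hVn : B ≤ normalizer (V : Set G))
    (hS : (S : Set G) = (U : Set G) * V) (hStop : S ≠ ⊤) : False := by
  obtain ⟨N, hN, hNt, hle⟩ := Cfsg.Agent.S0566.result U V hU hV fun x => by
    obtain ⟨a, ha, b, hb, he⟩ := h.fac x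
    refine ⟨MulAut.conj a • S, fun e => hStop (eq_top_of_card_eq S ?_), ?_⟩
    · rw [← CfsgLib.Solvable.card_conj_smul a S, e, card_top]
    · rw [coe_pointwise_smul, hS, smul_mul', ← coe_pointwise_smul, ← coe_pointwise_smul,
        CfsgLib.Solvable.conj_smul_eq_self_iff.mpr (hUn ha), he, map_mul, mul_smul,
        CfsgLib.Solvable.conj_smul_eq_self_iff.mpr (hVn hb)]
  have := h.simple
  obtain rfl := (IsSimpleGroup.eq_bot_or_eq_top_of_normal N hN).resolve_right hNt
  exact hle.elim (fun e => hU (le_bot_iff.mp e)) fun e => hV (le_bot_iff.mp e)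

theorem Counter.part_sup_part {r q : ℕ} [Fact r.Prime] [Fact q.Prime] (hr : r ∣ Nat.card A)
    (hq : q ∣ Nat.card B) : part A r ⊔ part B q = ⊤ := by
  by_contra hne
  set L := normalizer ((part A r ⊔ part B q : Subgroup G) : Set G) with hLdef
  have hT : part A r ⊔ part B q ≠ ⊥ := fun e => part_ne_bot hr (le_bot_iff.mp (e ▸ le_sup_left))
  have hLt : L ≠ ⊤ := h.norm_ne_top hT hne
  have hfac : ∀ g ∈ L, ∃ a ∈ L ⊓ A, ∃ b ∈ L ⊓ B, g = a * b := by
    intro g hg
    exact normalizer_sup_factor h.fac (part_normal h.nilA) (part_normal h.nilB) g hg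
  have hsol := h.sub L hLt hfac
  have hAL : part A r ≤ L := le_sup_left.trans le_normalizer
  have hBL : part B q ≤ L := le_sup_right.trans le_normalizer
  have hcopL : ∀ (X : Subgroup G) (_ : X ≤ L), (Nat.card X).Coprime X.index →
      (Nat.card (X.subgroupOf L)).Coprime (X.subgroupOf L).index := by
    intro X hX hc
    rw [Nat.card_congr (subgroupOfEquivOfLe hX).toEquiv]
    exact hc.coprime_dvd_right (relIndex_dvd_index_of_le hX)
  obtain ⟨S, hS⟩ := exists_subgroup_mul (G := L) (H := (L ⊓ A).subgroupOf L)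
    (K := (L ⊓ B).subgroupOf L) (A := (part A r).subgroupOf L) (B := (part B q).subgroupOf L)
    (fun g => by
      obtain ⟨a, ha, b, hb, he⟩ := hfac g g.2
      exact ⟨⟨a, ha.1⟩, mem_subgroupOf.mpr ha, ⟨b, hb.1⟩, mem_subgroupOf.mpr hb, Subtype.ext he⟩)
    (by
      have := (comap_mono (inf_le_right.trans (part_normal h.nilA)) :
        (L ⊓ A).subgroupOf L ≤ (normalizer (part A r : Set G)).subgroupOf L)
      exact this.trans (le_normalizer_comap L.subtype))
    (by
      have := (comap_mono (inf_le_right.trans (part_normal h.nilB)) :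
        (L ⊓ B).subgroupOf L ≤ (normalizer (part B q : Set G)).subgroupOf L)
      exact this.trans (le_normalizer_comap L.subtype))
    (hcopL _ hAL (part_coprime_index h.hall hr))
    (hcopL _ hBL (part_coprime_index h.symm.hall hq))
  refine h.kegel (S := S.map L.subtype) (part_ne_bot hr) (part_ne_bot hq) (part_normal h.nilA)
    (part_normal h.nilB) ?_ (fun e => hLt (top_le_iff.mp (e ▸ map_subtype_le S)))
  rw [coe_map, hS, Set.image_mul, ← coe_map, ← coe_map, map_subgroupOf_eq_of_le hAL,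
    map_subgroupOf_eq_of_le hBL]

/-- A normal `s`-subgroup, `s ∣ |A|`, of a proper factorised subgroup is impossible. -/
theorem Counter.no_left_pgroup {L N V : Subgroup G} {s : ℕ} (hs : s.Prime)
    (hfac : ∀ g ∈ L, ∃ a ∈ L ⊓ A, ∃ b ∈ L ⊓ B, g = a * b) (hsA : s ∣ Nat.card A)
    (hNL : N ≤ L) (hn : L ≤ normalizer (N : Set G)) (hN : IsPGroup s N) (hN1 : N ≠ ⊥)
    (hVL : V ≤ L) (htop : ∀ r : ℕ, r.Prime → r ∣ Nat.card A → part A r ⊔ V = ⊤) : False := by
  have hNA := h.le_left hfac hNL hn (coprime_of_pgroup hs hN (h.not_dvd_of_dvd hs hsA))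
  obtain ⟨r, hr, hrd, hrs⟩ := h.exists_other_prime s
  have := Fact.mk hr
  have := Fact.mk hs
  refine h.norm_ne_top hN1 (fun e => h.ne_top (top_le_iff.mp (e ▸ hNA))) (top_le_iff.mp ?_)
  rw [← htop r hr hrd]
  exact sup_le ((part_comm h.nilA hrs hNA hN).trans (centralizer_le_normalizer _)) (hVL.trans hn)

theorem Counter.sup_part {U : Subgroup G} (hU : U ≠ ⊥) (hUn : A ≤ normalizer (U : Set G))
    {q : ℕ} [hq' : Fact q.Prime] (hq : q ∣ Nat.card B) : U ⊔ part B q = ⊤ := by
  by_contra hne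
  set L := normalizer ((U ⊔ part B q : Subgroup G) : Set G) with hLdef
  have hLt : L ≠ ⊤ := h.norm_ne_top (fun e => hU (le_bot_iff.mp (e ▸ le_sup_left))) hne
  have hfac : ∀ g ∈ L, ∃ a ∈ L ⊓ A, ∃ b ∈ L ⊓ B, g = a * b := by
    intro g hg
    exact normalizer_sup_factor h.fac hUn (part_normal h.nilB) g hg
  have hsol := h.sub L hLt hfac
  have hUL : U ≤ L := le_sup_left.trans le_normalizer
  have hQL : part B q ≤ L := le_sup_right.trans le_normalizer
  have hπ : ∀ s : ℕ, s.Prime → s ∣ Nat.card A → Cfsg.pCore s L = ⊥ := by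
    intro s hs hsA
    by_contra hne'
    have := CfsgLib.Solvable.pCore_normal s L
    exact h.no_left_pgroup hs hfac hsA (map_subtype_le _) (le_normalizer_map_subtype _)
      ((CfsgLib.Solvable.pCore_isPGroup s L).map _)
      (fun e => hne' (map_injective L.subtype_injective (e.trans (Subgroup.map_bot _).symm))) hQL
      fun r hr hrd => by have := Fact.mk hr; exact h.part_sup_part hrd hq
  by_cases hcq : Cfsg.pCore q L = ⊥
  · have hF : Cfsg.fittingSubgroup L ≤ centralizer ((part B q).subgroupOf L : Set L) := by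
      rw [CfsgLib.Solvable.fittingSubgroup_eq_iSup_pCore]
      refine iSup_le fun s => ?_
      have hs : (s : ℕ).Prime := (Nat.mem_primeFactors.mp s.2).1
      by_cases hsA : (s : ℕ) ∣ Nat.card A
      · rw [hπ s hs hsA]; exact bot_le
      by_cases hsq : (s : ℕ) = q
      · rw [hsq, hcq]; exact bot_le
      have := Fact.mk hs
      have := CfsgLib.Solvable.pCore_normal (s : ℕ) L
      have hpg := (CfsgLib.Solvable.pCore_isPGroup (s : ℕ) L).map L.subtype
      have hNB := h.symm.le_left (fun g hg => by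
          obtain ⟨a, ha, b, hb, he⟩ := hfac g⁻¹ (L.inv_mem hg)
          exact ⟨b⁻¹, inv_mem hb, a⁻¹, inv_mem ha, by rw [← mul_inv_rev, ← he, inv_inv]⟩)
        (map_subtype_le _) (le_normalizer_map_subtype _) (coprime_of_pgroup hs hpg hsA)
      intro x hx
      rw [mem_centralizer_iff]
      intro y hy
      exact Subtype.ext (mem_centralizer_iff.mp (part_comm h.nilB (Ne.symm hsq) hNB hpg hy) _
        (mem_map_of_mem L.subtype hx)).symm
    have hle : (part B q).subgroupOf L ≤ Cfsg.fittingSubgroup L :=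
      (le_centralizer_iff.mp hF).trans CfsgLib.Solvable.centralizer_fittingSubgroup_le
    have := CfsgLib.Solvable.fittingSubgroup_isNilpotent L
    have := CfsgLib.Solvable.fittingSubgroup_normal L
    have hch := (default : Sylow q (Cfsg.fittingSubgroup L)).characteristic_of_normal inferInstance
    have hbot : (default : Sylow q (Cfsg.fittingSubgroup L)).toSubgroup = ⊥ := by
      refine map_injective (Cfsg.fittingSubgroup L).subtype_injective ?_
      rw [Subgroup.map_bot]
      exact CfsgLib.Solvable.pCore_eq_bot_iff.mp hcq _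
        (CfsgLib.Solvable.normal_map_subtype_of_characteristic _ _)
        ((default : Sylow q (Cfsg.fittingSubgroup L)).2.map _)
    obtain ⟨k, hk⟩ := IsPGroup.iff_card.mp (part_pgroup (A := B) (r := q))
    have hk0 : k ≠ 0 := fun e => part_ne_bot hq (eq_bot_of_card_eq _ (by rw [hk, e, pow_zero]))
    have hdvd : q ∣ Nat.card (Cfsg.fittingSubgroup L) := by
      refine ((dvd_pow_self q hk0).trans hk.symm.dvd).trans ?_
      rw [← Nat.card_congr (subgroupOfEquivOfLe hQL).toEquiv]
      exact card_dvd_of_le hle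
    exact Sylow.ne_bot_of_dvd_card _ hdvd hbot
  · set N := (Cfsg.pCore q L).map L.subtype
    have := CfsgLib.Solvable.pCore_normal q L
    have hN1 : N ≠ ⊥ := fun e =>
      hcq (map_injective L.subtype_injective (e.trans (Subgroup.map_bot _).symm))
    have hn : L ≤ normalizer (N : Set G) := le_normalizer_map_subtype _
    have hNp : IsPGroup q N := (CfsgLib.Solvable.pCore_isPGroup q L).map _
    have hNB : N ≤ B := h.symm.le_left (fun g hg => by
        obtain ⟨a, ha, b, hb, he⟩ := hfac g⁻¹ (L.inv_mem hg)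
        exact ⟨b⁻¹, inv_mem hb, a⁻¹, inv_mem ha, by rw [← mul_inv_rev, ← he, inv_inv]⟩)
      (map_subtype_le _) hn (coprime_of_pgroup hq'.out hNp (h.symm.not_dvd_of_dvd hq'.out hq))
    have hBn : B ≤ normalizer (N : Set G) := by
      rw [← subgroupOf_eq_top]
      refine CfsgLib.MinNonNilp.eq_top_of_forall_sylow fun s hs _ => ⟨default, fun a ha => ?_⟩
      rw [mem_subgroupOf]
      have ha' : (a : G) ∈ part B s := mem_map_of_mem _ ha
      by_cases hsq : s = q
      · subst hsq
        exact hn (hQL ha')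
      · exact centralizer_le_normalizer _ (part_comm h.nilB hsq hNB hNp ha')
    refine h.kegel (S := U ⊔ N) hU hN1 hUn hBn (coe_mul_of_left_le_normalizer_right U N (hUL.trans hn))
      fun e => hLt (top_le_iff.mp (e ▸ sup_le hUL (map_subtype_le _)))

theorem Counter.sup_eq_top {U V : Subgroup G} (hU : U ≠ ⊥) (hUn : A ≤ normalizer (U : Set G))
    (hV : V ≠ ⊥) (hVn : B ≤ normalizer (V : Set G)) : U ⊔ V = ⊤ := by
  by_contra hne
  set L := normalizer ((U ⊔ V : Subgroup G) : Set G) with hLdef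
  have hLt : L ≠ ⊤ := h.norm_ne_top (fun e => hU (le_bot_iff.mp (e ▸ le_sup_left))) hne
  have hfac : ∀ g ∈ L, ∃ a ∈ L ⊓ A, ∃ b ∈ L ⊓ B, g = a * b := by
    intro g hg
    exact normalizer_sup_factor h.fac hUn hVn g hg
  have hsol := h.sub L hLt hfac
  have hUL : U ≤ L := le_sup_left.trans le_normalizer
  have hVL : V ≤ L := le_sup_right.trans le_normalizer
  have : Nontrivial L := (nontrivial_iff_ne_bot L).mpr fun e => hU (le_bot_iff.mp (e ▸ hUL))
  obtain ⟨s, N₀, hs, hN₀, hNp, hN₀1⟩ := CfsgLib.Solvable.exists_normal_pgroup_ne_bot (G := L)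
  have hN1 : N₀.map L.subtype ≠ ⊥ := fun e =>
    hN₀1 (map_injective L.subtype_injective (e.trans (Subgroup.map_bot _).symm))
  rcases h.prime_cases hs (hNp.map L.subtype) hN1 with hsA | hsB
  · exact h.no_left_pgroup hs hfac hsA (map_subtype_le _) (le_normalizer_map_subtype _)
      (hNp.map _) hN1 hVL fun r hr hrd => by
        have := Fact.mk hr
        rw [sup_comm]
        exact h.symm.sup_part hV hVn hrd
  · exact h.symm.no_left_pgroup hs (fun g hg => by
        obtain ⟨a, ha, b, hb, he⟩ := hfac g⁻¹ (L.inv_mem hg)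
        exact ⟨b⁻¹, inv_mem hb, a⁻¹, inv_mem ha, by rw [← mul_inv_rev, ← he, inv_inv]⟩)
      hsB (map_subtype_le _) (le_normalizer_map_subtype _) (hNp.map _) hN1 hUL fun r hr hrd => by
        have := Fact.mk hr
        rw [sup_comm]
        exact h.sup_part hU hUn hrd

/-- No proper subgroup contains central elements of `A` and conjugates of central elements of `B`. -/
theorem Counter.key {L : Subgroup G} {z y : G} (hz : z ∈ A) (hz1 : z ≠ 1)
    (hzA : A ≤ centralizer {z}) (hy : y ∈ B) (hy1 : y ≠ 1) (hyB : B ≤ centralizer {y}) (x : G)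
    (hzL : z ∈ L) (hyL : x * y * x⁻¹ ∈ L) : L = ⊤ := by
  obtain ⟨a, ha, b, hb, rfl⟩ := h.fac x
  have htop := h.sup_eq_top (U := zpowers z) (V := zpowers y) (by simpa using hz1)
    (hzA.trans (centralizer_singleton_le_normalizer z)) (by simpa using hy1)
    (hyB.trans (centralizer_singleton_le_normalizer y))
  have h1 : zpowers z ⊔ zpowers y ≤ MulAut.conj a⁻¹ • L := by
    refine sup_le (zpowers_le.mpr ?_) (zpowers_le.mpr ?_)
    · rw [mem_conj, inv_inv, mem_centralizer_singleton_iff.mp (hzA ha), mul_assoc, mul_inv_cancel,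
        mul_one]
      exact hzL
    · rw [mem_conj, inv_inv]
      have e : b * y * b⁻¹ = y := by
        rw [mem_centralizer_singleton_iff.mp (hyB hb), mul_inv_cancel_right]
      have : a * y * a⁻¹ = a * b * y * (a * b)⁻¹ := by
        calc a * y * a⁻¹ = a * (b * y * b⁻¹) * a⁻¹ := by rw [e]
          _ = _ := by group
      rw [this]
      exact hyL
  rw [htop, top_le_iff] at h1
  exact eq_top_of_card_eq L (by rw [← CfsgLib.Solvable.card_conj_smul a⁻¹ L, h1, card_top])

theorem Counter.exists_central : ∃ z ∈ A, z ≠ 1 ∧ A ≤ centralizer {z} := by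
  obtain ⟨r, hr, hrd⟩ := exists_prime_dvd h.ne_bot
  have := Fact.mk hr
  obtain ⟨z, hz, hz1, hzA⟩ := exists_central_part h.nilA hrd
  exact ⟨z, part_le hz, hz1, hzA⟩

theorem Counter.not_normalized {X : Subgroup G} (hX : X ≠ ⊥) (hXA : X ≤ A) {y : G} (hy : y ∈ B)
    (hy1 : y ≠ 1) (hyB : B ≤ centralizer {y}) (hyX : y ∈ normalizer (X : Set G)) : False := by
  obtain ⟨z, hz, hz1, hzA⟩ := h.exists_central
  refine h.norm_ne_top hX (fun e => h.ne_top (top_le_iff.mp (e ▸ hXA)))
    (h.key hz hz1 hzA hy hy1 hyB 1 ?_ (by simpa using hyX))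
  refine centralizer_le_normalizer _ (mem_centralizer_iff.mpr fun a ha => ?_)
  exact mem_centralizer_singleton_iff.mp (hzA (hXA ha))

theorem Counter.centralizer_eq {z : G} (hz : z ∈ A) (hz1 : z ≠ 1)
    (hzA : A ≤ centralizer {z}) : centralizer {z} = A := by
  refine le_antisymm (fun g hg => ?_) hzA
  obtain ⟨a, ha, b, hb, rfl⟩ := h.fac g
  have hbz : b ∈ centralizer {z} := (Subgroup.mul_mem_cancel_left _ (hzA ha)).mp hg
  by_cases hb1 : b = 1
  · rw [hb1, mul_one]; exact ha
  obtain ⟨y, hy, hy1, hyB⟩ := h.symm.exists_central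
  refine absurd (h.key hz hz1 hzA hy hy1 hyB 1 ?_ ?_) (h.cent_ne_top hb1)
  · exact mem_centralizer_singleton_iff.mpr (mem_centralizer_singleton_iff.mp hbz).symm
  · simp only [one_mul, inv_one, mul_one, mem_centralizer_singleton_iff]
    exact (mem_centralizer_singleton_iff.mp (hyB hb)).symm

/-- In a proper factorised subgroup containing the centre of `B`, the `B`-part is normal. -/
theorem Counter.inf_normal {L : Subgroup G} (hLt : L ≠ ⊤)
    (hfac : ∀ g ∈ L, ∃ a ∈ L ⊓ A, ∃ b ∈ L ⊓ B, g = a * b)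
    (hZ : ∀ y ∈ B, B ≤ centralizer {y} → y ∈ L) : L ≤ normalizer ((L ⊓ B : Subgroup G) : Set G) := by
  have hsol := h.sub L hLt hfac
  have hfac' : ∀ g ∈ L, ∃ b ∈ L ⊓ B, ∃ a ∈ L ⊓ A, g = b * a := fun g hg => by
    obtain ⟨a, ha, b, hb, he⟩ := hfac g⁻¹ (L.inv_mem hg)
    exact ⟨b⁻¹, inv_mem hb, a⁻¹, inv_mem ha, by rw [← mul_inv_rev, ← he, inv_inv]⟩
  have hFn := CfsgLib.Solvable.fittingSubgroup_normal L
  set F := Cfsg.fittingSubgroup L with hFdef
  have hFB : F ≤ B.subgroupOf L := by
    rw [hFdef, CfsgLib.Solvable.fittingSubgroup_eq_iSup_pCore]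
    refine iSup_le fun s => ?_
    have hs : (s : ℕ).Prime := (Nat.mem_primeFactors.mp s.2).1
    have := CfsgLib.Solvable.pCore_normal (s : ℕ) L
    have hpg := (CfsgLib.Solvable.pCore_isPGroup (s : ℕ) L).map L.subtype
    by_cases hsA : (s : ℕ) ∣ Nat.card A
    · by_cases h0 : Cfsg.pCore (s : ℕ) L = ⊥
      · rw [h0]; exact bot_le
      exfalso
      obtain ⟨y, hy, hy1, hyB⟩ := h.symm.exists_central
      exact h.not_normalized
        (fun e => h0 (map_injective L.subtype_injective (e.trans (Subgroup.map_bot _).symm)))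
        (h.le_left hfac (map_subtype_le _) (le_normalizer_map_subtype _)
          (coprime_of_pgroup hs hpg (h.not_dvd_of_dvd hs hsA)))
        hy hy1 hyB (le_normalizer_map_subtype _ (hZ y hy hyB))
    · exact map_le_iff_le_comap.mp (h.symm.le_left hfac' (map_subtype_le _)
        (le_normalizer_map_subtype _) (coprime_of_pgroup hs hpg hsA))
  have hFnil := CfsgLib.Solvable.fittingSubgroup_isNilpotent L
  suffices hle : B.subgroupOf L ≤ F by
    have he : F.map L.subtype = L ⊓ B := by
      rw [le_antisymm hFB hle, subgroupOf_map_subtype, inf_comm]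
    rw [← he]
    exact le_normalizer_map_subtype F
  rw [← subgroupOf_eq_top]
  refine CfsgLib.MinNonNilp.eq_top_of_forall_sylow fun s hs _ => ⟨default, fun b hb => ?_⟩
  rw [mem_subgroupOf]
  obtain ⟨r, hr, hrd, hrs⟩ := h.symm.exists_other_prime s
  have := Fact.mk hr
  obtain ⟨y, hy, hy1, hyB⟩ := exists_central_part h.nilB hrd
  let y' : L := ⟨y, hZ y (part_le hy) hyB⟩
  have hyF : y' ∈ F := CfsgLib.Solvable.centralizer_fittingSubgroup_le
    (mem_centralizer_iff.mpr fun f hf =>
      Subtype.ext (mem_centralizer_singleton_iff.mp (hyB (hFB hf))))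
  set Y := normalClosure ({y'} : Set L)
  have hY : Y ≤ (part B r).subgroupOf L := by
    rw [show Y = Subgroup.closure (Group.conjugatesOfSet {y'}) from rfl, closure_le]
    intro c hc
    obtain ⟨c₀, hc₀, hconj⟩ := Group.mem_conjugatesOfSet_iff.mp hc
    rw [Set.mem_singleton_iff] at hc₀
    subst hc₀
    obtain ⟨g, rfl⟩ := isConj_iff.mp hconj
    have hcB : ((g * y' * g⁻¹ : L) : G) ∈ B := hFB (hFn.conj_mem _ hyF g)
    refine mem_subgroupOf.mpr (le_part h.nilB (zpowers_le.mpr hcB) ?_ (mem_zpowers _))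
    have h1 : IsPGroup r (zpowers y) := part_pgroup.to_le (zpowers_le.mpr hy)
    refine (h1.map (MulAut.conj (g : G)).toMonoidHom).to_le ?_
    rw [MonoidHom.map_zpowers]
    exact le_rfl
  set C := centralizer (Y : Set L)
  have hCA : (C.map L.subtype) ⊓ A = ⊥ := by
    rw [eq_bot_iff]
    rintro _ ⟨⟨c, hc, rfl⟩, hcA⟩
    have h1 : (c : G) ∈ centralizer {y} := mem_centralizer_singleton_iff.mpr
      (congrArg Subtype.val (mem_centralizer_iff.mp hc y' (subset_normalClosure rfl))).symm
    rw [h.symm.centralizer_eq (part_le hy) hy1 hyB] at h1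
    exact h.inf_eq.le ⟨hcA, h1⟩
  have hCB : C.map L.subtype ≤ B := by
    refine h.symm.le_left hfac' (map_subtype_le _) (le_normalizer_map_subtype _) ?_
    refine Nat.coprime_of_dvd fun p hp hpC hpA => ?_
    have := Fact.mk hp
    obtain ⟨c, hc⟩ := exists_prime_orderOf_dvd_card' (G := (C.map L.subtype : Subgroup G)) p hpC
    rw [← Subgroup.orderOf_coe] at hc
    have hcL : (c : G) ∈ L := map_subtype_le _ c.2
    obtain ⟨x, hx, hxle⟩ := nilpotent_hall_dominant_aux _ L (L ⊓ A) (zpowers (c : G)) inf_le_left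
      (zpowers_le.mpr hcL) rfl (nilpotent_mono h.nilA inf_le_right) (by
        have h1 := ((L ⊓ A).subgroupOf L).card_mul_index
        rw [Nat.card_congr (subgroupOfEquivOfLe (inf_le_left : L ⊓ A ≤ L)).toEquiv,
          h.card_fac hfac] at h1
        rw [relIndex, Nat.eq_of_mul_eq_mul_left Nat.card_pos h1]
        exact (h.cop.coprime_dvd_left (card_dvd_of_le inf_le_right)).coprime_dvd_right
          (card_dvd_of_le inf_le_right))
      fun q hq hqd => by
        rw [Nat.card_zpowers, hc] at hqd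
        rw [(Nat.prime_dvd_prime_iff_eq hq hp).mp hqd]
        have h2 : p ∣ Nat.card L := by
          rw [← hc]; exact Subgroup.orderOf_dvd_natCard L hcL
        rw [h.card_fac hfac] at h2
        exact (hp.dvd_mul.mp h2).resolve_right fun h3 =>
          h.not_dvd_of_dvd hp hpA (h3.trans (card_dvd_of_le inf_le_right))
    have h1 := mem_conj.mp (hxle (mem_zpowers (c : G)))
    have h2 : x⁻¹ * c * x ∈ C.map L.subtype := by
      have := (mem_normalizer_iff.mp (le_normalizer_map_subtype C (L.inv_mem hx)) c).mp c.2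
      simpa using this
    have h3 : x⁻¹ * c * x = 1 := by
      have := hCA.le ⟨h2, h1.2⟩
      rwa [mem_bot] at this
    have h4 : (c : G) = 1 := by
      have := congrArg (fun t => x * t * x⁻¹) h3
      simpa [mul_assoc] using this
    rw [h4, orderOf_one] at hc
    exact hp.ne_one hc.symm
  have hCF : C ≤ F := CfsgLib.Solvable.le_fittingSubgroup inferInstance (by
    have := nilpotent_mono h.nilB hCB
    exact Group.nilpotent_of_mulEquiv (C.equivMapOfInjective L.subtype L.subtype_injective).symm)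
  refine hCF (mem_centralizer_iff.mpr fun c hc => Subtype.ext ?_)
  have hbz : IsPGroup s (zpowers (((b : L) : G))) := by
    refine (((default : Sylow s (B.subgroupOf L)).2.to_le (zpowers_le.mpr hb)).map
      (L.subtype.comp (B.subgroupOf L).subtype)).to_le ?_
    rw [MonoidHom.map_zpowers]
    exact le_rfl
  exact (mem_centralizer_iff.mp (part_comm h.nilB hrs (zpowers_le.mpr b.2) hbz (hY hc)) _
    (mem_zpowers _)).symm

/-- A proper subgroup containing `A` normalises `A`. -/
theorem Counter.le_norm {L : Subgroup G} (hLt : L ≠ ⊤) (hAL : A ≤ L) :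
    L ≤ normalizer (A : Set G) := by
  have h1 := h.symm.inf_normal hLt (fun g hg => by
    obtain ⟨a, ha, b, hb, he⟩ := h.fac_of_le hAL g⁻¹ (L.inv_mem hg)
    exact ⟨b⁻¹, inv_mem hb, a⁻¹, inv_mem ha, by rw [← mul_inv_rev, ← he, inv_inv]⟩)
    fun y hy _ => hAL hy
  rwa [inf_eq_right.mpr hAL] at h1

theorem Counter.norm_part_le {r : ℕ} [Fact r.Prime] (hr : r ∣ Nat.card A) :
    normalizer (part A r : Set G) ≤ normalizer (A : Set G) :=
  h.le_norm (h.norm_ne_top (part_ne_bot hr) fun e => h.ne_top (top_le_iff.mp (e ▸ part_le)))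
    (part_normal h.nilA)

theorem Counter.fus {z g : G} {p : ℕ} [Fact p.Prime] (hz : z ∈ part A p) (hz1 : z ≠ 1)
    (hzA : A ≤ centralizer {z}) (hg : g * z * g⁻¹ ∈ A) : g ∈ normalizer (A : Set G) := by
  obtain ⟨r, hr, hrd, hrp⟩ := h.exists_other_prime p
  have := Fact.mk hr
  have hzp : IsPGroup p (zpowers (g * z * g⁻¹)) := by
    refine ((part_pgroup.to_le (zpowers_le.mpr hz)).map (MulAut.conj g).toMonoidHom).to_le ?_
    rw [MonoidHom.map_zpowers]
    exact le_rfl
  have hle : part A r ≤ MulAut.conj g • A := by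
    intro x hx
    have h1 := mem_centralizer_iff.mp
      (part_comm h.nilA hrp (zpowers_le.mpr hg) hzp hx) _ (mem_zpowers (g * z * g⁻¹))
    rw [mem_conj, ← h.centralizer_eq (part_le hz) hz1 hzA, mem_centralizer_singleton_iff]
    calc g⁻¹ * x * g * z = g⁻¹ * (x * (g * z * g⁻¹)) * g := by group
      _ = g⁻¹ * ((g * z * g⁻¹) * x) * g := by rw [h1]
      _ = z * (g⁻¹ * x * g) := by group
  have h2 : MulAut.conj g⁻¹ • part A r ≤ A := by
    intro x hx
    rw [mem_conj, inv_inv] at hx
    have := mem_conj.mp (hle hx)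
    simpa [mul_assoc] using this
  exact inv_inv g ▸ inv_mem (h.norm_part_le hrd (mem_norm_part h.nilA h2))

/-- `x ∈ A` normalising `B`: the centraliser normalises `A`. -/
theorem Counter.cent_le_of_norm {x : G} (hx : x ∈ A) {p : ℕ} (hp : p.Prime) (hxp : orderOf x = p)
    (hxB : x ∈ normalizer (B : Set G)) : centralizer {x} ≤ normalizer (A : Set G) := by
  have := Fact.mk hp
  have hx1 : x ≠ 1 := fun e => hp.ne_one (by rw [← hxp, e, orderOf_one])
  have hn := h.symm.inf_normal (h.cent_ne_top hx1)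
    (centralizer_factor (A := B) (B := A) h.symm.inf_eq h.symm.fac hx hxB)
    fun y _ hyA => mem_centralizer_singleton_iff.mpr (mem_centralizer_singleton_iff.mp (hyA hx)).symm
  obtain ⟨r, hr, hrd, hrp⟩ := h.exists_other_prime p
  have := Fact.mk hr
  have hxz : IsPGroup p (zpowers x) :=
    IsPGroup.of_card (n := 1) (by rw [Nat.card_zpowers, hxp, pow_one])
  intro k hk
  refine h.norm_part_le hrd (mem_norm_part h.nilA ?_)
  refine (CfsgLib.Solvable.conj_smul_le_of_mem_normalizer (hn hk) (le_inf ?_ part_le)).trans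
    inf_le_right
  intro a ha
  exact mem_centralizer_singleton_iff.mpr
    (mem_centralizer_iff.mp (part_comm h.nilA hrp (zpowers_le.mpr hx) hxz ha) x (mem_zpowers x)).symm

theorem Counter.cent_le {x : G} (hx : x ∈ A) {p : ℕ} (hp : p.Prime) (hxp : orderOf x = p) :
    centralizer {x} ≤ normalizer (A : Set G) := by
  set M := normalizer (A : Set G) with hM
  set H := centralizer {x} ⊓ M with hH
  by_cases hσ : ∃ q, q.Prime ∧ q ∣ Nat.card H ∧ q ∣ Nat.card B
  · obtain ⟨q, hq, hqH, hqB⟩ := hσ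
    have := Fact.mk hq
    obtain ⟨⟨w, hw⟩, hwq⟩ := exists_prime_orderOf_dvd_card' (G := H) q hqH
    rw [Subgroup.orderOf_mk] at hwq
    have hfM := h.fac_of_le (le_normalizer : A ≤ M)
    have hrel : (M ⊓ B).relIndex M = Nat.card (M ⊓ A : Subgroup G) := by
      have h1 := ((M ⊓ B).subgroupOf M).card_mul_index
      rw [Nat.card_congr (subgroupOfEquivOfLe (inf_le_left : M ⊓ B ≤ M)).toEquiv,
        h.card_fac hfM, mul_comm (Nat.card (M ⊓ A : Subgroup G))] at h1
      exact Nat.eq_of_mul_eq_mul_left Nat.card_pos h1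
    obtain ⟨m, hm, hmle⟩ := nilpotent_hall_dominant_aux _ M (M ⊓ B) (zpowers w) inf_le_left
      (zpowers_le.mpr hw.2) rfl (nilpotent_mono h.nilB inf_le_right)
      (by
        rw [hrel]
        exact (h.cop.symm.coprime_dvd_left (card_dvd_of_le inf_le_right)).coprime_dvd_right
          (card_dvd_of_le inf_le_right))
      fun s hs hsd => by
        rw [Nat.card_zpowers, hwq] at hsd
        rw [(Nat.prime_dvd_prime_iff_eq hs hq).mp hsd]
        have h2 : q ∣ Nat.card M := by rw [← hwq]; exact Subgroup.orderOf_dvd_natCard M hw.2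
        rw [h.card_fac hfM] at h2
        exact (hq.dvd_mul.mp h2).resolve_left fun h3 =>
          h.symm.not_dvd_of_dvd hq hqB (h3.trans (card_dvd_of_le inf_le_right))
    obtain ⟨a, ha, b, hb, rfl⟩ := hfM m hm
    rw [map_mul, mul_smul, conj_smul_of_mem hb] at hmle
    have ht := mem_conj.mp (hmle (mem_zpowers w))
    set t := a⁻¹ * w * a with htdef
    have htq : orderOf t = q := by
      rw [htdef, ← hwq, ← (MulAut.conj a⁻¹).orderOf_eq w, MulAut.conj_apply, inv_inv]
    have hx'q : orderOf (a⁻¹ * x * a) = p := by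
      rw [← hxp, ← (MulAut.conj a⁻¹).orderOf_eq x, MulAut.conj_apply, inv_inv]
    have hcomm : a⁻¹ * x * a ∈ centralizer {t} := by
      rw [mem_centralizer_singleton_iff, htdef]
      have h1 := mem_centralizer_singleton_iff.mp hw.1
      calc a⁻¹ * x * a * (a⁻¹ * w * a) = a⁻¹ * (x * w) * a := by group
        _ = a⁻¹ * (w * x) * a := by rw [h1]
        _ = _ := by group
    have hN := h.symm.cent_le_of_norm ht.2 hq htq ht.1 hcomm
    have hfin := h.cent_le_of_norm (A.mul_mem (A.mul_mem (A.inv_mem ha.2) hx) ha.2) hp hx'q hN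
    intro k hk
    have h3 : a⁻¹ * k * a ∈ M := hfin <| by
      rw [mem_centralizer_singleton_iff]
      have h1 := mem_centralizer_singleton_iff.mp hk
      calc a⁻¹ * k * a * (a⁻¹ * x * a) = a⁻¹ * (k * x) * a := by group
        _ = a⁻¹ * (x * k) * a := by rw [h1]
        _ = _ := by group
    have := M.mul_mem (M.mul_mem ha.1 h3) (M.inv_mem ha.1)
    simpa [mul_assoc] using this
  push Not at hσ
  set K := centralizer {x} with hK
  have hHA : H ≤ A := h.le_of_normalizing inf_le_right
    (Nat.coprime_of_dvd fun s hs h1 h2 => hσ s hs h1 h2)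
  have hHK : H ≤ K := inf_le_left
  have hHnil := nilpotent_mono h.nilA hHA
  have hcentral : ∀ (s : ℕ) [Fact s.Prime], s ∣ Nat.card A → ∃ z ∈ part A s, z ≠ 1 ∧
      A ≤ centralizer {z} ∧ z ∈ part H s := by
    intro s hs hsd
    obtain ⟨z, hz, hz1, hzA⟩ := exists_central_part h.nilA hsd
    refine ⟨z, hz, hz1, hzA, le_part hHnil (zpowers_le.mpr ⟨?_, le_normalizer (part_le hz)⟩)
      (part_pgroup.to_le (zpowers_le.mpr hz)) (mem_zpowers z)⟩
    exact mem_centralizer_singleton_iff.mpr (mem_centralizer_singleton_iff.mp (hzA hx)).symm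
  -- normalisers of Sylow subgroups of `H` in `K`
  have hnorm : ∀ (s : ℕ) [Fact s.Prime], s ∣ Nat.card A →
      ∀ k ∈ K, k ∈ normalizer (part H s : Set G) → k ∈ H := by
    intro s hs hsd k hk hkn
    obtain ⟨z, hz, hz1, hzA, hzH⟩ := hcentral s hsd
    exact ⟨hk, h.fus hz hz1 hzA (hHA (part_le ((mem_normalizer_iff.mp hkn z).mp hzH)))⟩
  have hsyl : ∀ (s : ℕ) [Fact s.Prime], s ∣ Nat.card A → ¬ s ∣ (part H s).relIndex K := by
    intro s hs hsd
    have hSK : part H s ≤ K := part_le.trans hHK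
    obtain ⟨Q, hQ⟩ :=
      ((part_pgroup (A := H) (r := s)).comap_of_injective K.subtype K.subtype_injective).exists_le_sylow
    set S₁ := (part H s).subgroupOf K
    suffices he : S₁ = (Q : Subgroup K) by
      show ¬ s ∣ S₁.index
      rw [he]; exact Q.not_dvd_index
    by_contra hne
    have := Q.2.isNilpotent
    have hlt : S₁.subgroupOf (Q : Subgroup K) < ⊤ := lt_top_iff_ne_top.mpr fun e =>
      hne (le_antisymm hQ (subgroupOf_eq_top.mp e))
    obtain ⟨⟨k, hkQ⟩, hk, hknot⟩ := SetLike.exists_of_lt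
      (normalizerCondition_of_isNilpotent _ hlt)
    refine hknot (mem_subgroupOf.mpr (mem_subgroupOf.mpr ?_))
    have hkn : (k : G) ∈ normalizer (part H s : Set G) := by
      rw [← CfsgLib.Solvable.conj_smul_eq_self_iff]
      refine eq_of_le_of_card_ge ?_ (CfsgLib.Solvable.card_conj_smul _ _).ge
      rw [CfsgLib.Solvable.conj_smul_le_iff]
      intro a ha
      exact mem_subgroupOf.mp (mem_subgroupOf.mp ((mem_normalizer_iff.mp hk
        ⟨⟨a, hSK ha⟩, hQ (mem_subgroupOf.mpr ha)⟩).mp
        (mem_subgroupOf.mpr (mem_subgroupOf.mpr ha))))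
    refine le_part hHnil (zpowers_le.mpr (hnorm s hsd k k.2 hkn)) ?_ (mem_zpowers _)
    refine ((Q.2.to_le (zpowers_le.mpr hkQ)).map K.subtype).to_le ?_
    rw [MonoidHom.map_zpowers]
    exact le_rfl
  have hprimes : ∀ s, s.Prime → s ∣ Nat.card H → s ∣ Nat.card A :=
    fun s _ hd => hd.trans (card_dvd_of_le hHA)
  have hHall : (Nat.card (H.subgroupOf K)).Coprime (H.subgroupOf K).index := by
    rw [Nat.card_congr (subgroupOfEquivOfLe hHK).toEquiv]
    refine Nat.coprime_of_dvd fun s hs h1 h2 => ?_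
    have := Fact.mk hs
    refine hsyl s (hprimes s hs h1) (h2.trans ?_)
    rw [← relIndex_mul_relIndex (part H s) H K part_le hHK]
    exact dvd_mul_left _ _
  have hfus : ∀ r : ℕ, r.Prime → ∀ w ∈ H.subgroupOf K, (∃ k, orderOf w = r ^ k) →
      ∀ u : K, u * w * u⁻¹ ∈ H.subgroupOf K →
      ∃ n ∈ H.subgroupOf K, n * w * n⁻¹ = u * w * u⁻¹ := by
    intro r hr w hw hord u hu
    obtain ⟨k, hk⟩ := hord
    obtain ⟨s, hs, hsd, hsr⟩ := h.exists_other_prime r
    have := Fact.mk hs
    have := Fact.mk hr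
    have hwz : IsPGroup r (zpowers (w : G)) :=
      IsPGroup.of_card (n := k) (by rw [Nat.card_zpowers, Subgroup.orderOf_coe, hk])
    set v := (u : G) * w * (u : G)⁻¹ with hvdef
    have hvz : IsPGroup r (zpowers v) := by
      refine (hwz.map (MulAut.conj (u : G)).toMonoidHom).to_le ?_
      rw [MonoidHom.map_zpowers]
      exact le_rfl
    have hSD : part H s ≤ K ⊓ centralizer {v} := by
      refine le_inf (part_le.trans hHK) fun a ha => mem_centralizer_singleton_iff.mpr ?_
      exact (mem_centralizer_iff.mp (part_comm hHnil hsr (zpowers_le.mpr (mem_subgroupOf.mp hu))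
        hvz ha) v (mem_zpowers v)).symm
    have huS : MulAut.conj (u : G) • part H s ≤ K ⊓ centralizer {v} := by
      rw [CfsgLib.Solvable.conj_smul_le_iff]
      intro a ha
      have h1 := mem_centralizer_iff.mp (part_comm hHnil hsr (zpowers_le.mpr (mem_subgroupOf.mp hw))
        hwz ha) w (mem_zpowers _)
      refine ⟨K.mul_mem (K.mul_mem u.2 ((part_le.trans hHK) ha)) (K.inv_mem u.2), ?_⟩
      show _ ∈ centralizer {v}
      rw [mem_centralizer_singleton_iff, hvdef]
      calc (u : G) * a * (u : G)⁻¹ * ((u : G) * w * (u : G)⁻¹)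
          = (u : G) * (a * w) * (u : G)⁻¹ := by group
        _ = (u : G) * ((w : G) * a) * (u : G)⁻¹ := by rw [h1]
        _ = _ := by group
    obtain ⟨d, hd, hdle⟩ := exists_conj_of_pgroup part_pgroup hSD (part_pgroup.map _) huS
      fun hdvd => hsyl s hsd (hdvd.trans (by
        rw [← relIndex_mul_relIndex (part H s) (K ⊓ centralizer {v}) K hSD inf_le_left]
        exact dvd_mul_right _ _))
    have hn : d⁻¹ * u ∈ normalizer (part H s : Set G) := by
      rw [← CfsgLib.Solvable.conj_smul_eq_self_iff, map_mul, mul_smul]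
      refine eq_of_le_of_card_ge ?_ ((CfsgLib.Solvable.card_conj_smul _ _).trans (CfsgLib.Solvable.card_conj_smul _ _)).ge
      intro a ha
      rw [mem_conj, inv_inv] at ha
      have := mem_conj.mp (hdle ha)
      simpa [mul_assoc] using this
    have hnK : d⁻¹ * u ∈ K := K.mul_mem (K.inv_mem hd.1) u.2
    refine ⟨⟨_, hnK⟩, mem_subgroupOf.mpr (hnorm s hsd _ hnK hn), Subtype.ext ?_⟩
    show d⁻¹ * (u : G) * w * (d⁻¹ * (u : G))⁻¹ = v
    have h1 := mem_centralizer_singleton_iff.mp (inv_mem hd.2)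
    calc d⁻¹ * (u : G) * w * (d⁻¹ * (u : G))⁻¹ = d⁻¹ * v * d := by rw [hvdef]; group
      _ = v := by rw [h1, inv_mul_cancel_right]
  have hHKnil : Group.IsNilpotent (H.subgroupOf K) := by
    have := hHnil
    exact Group.nilpotent_of_mulEquiv (subgroupOfEquivOfLe hHK).symm
  obtain ⟨n, hn⟩ := (isNilpotent_iff_lowerCentralSeries _).mp hHKnil
  obtain ⟨W, hWn, hW⟩ := CfsgLib.HallComplement.exists_normal_complement_of_focal_series hHall n
    (eq_bot_iff.mpr ((CfsgLib.HallComplement.focal_iterate_le_lowerCentralSeries hfus n).trans hn.le))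
  by_cases hW1 : W = ⊥
  · rw [hW1, isComplement'_bot_left] at hW
    exact (subgroupOf_eq_top.mp hW).trans inf_le_right
  exfalso
  set W' := W.map K.subtype with hW'
  have hW'1 : W' ≠ ⊥ := fun e =>
    hW1 (map_injective K.subtype_injective (e.trans (Subgroup.map_bot _).symm))
  have hWB : ∀ s : ℕ, s.Prime → s ∣ Nat.card W' → s ∣ Nat.card B := by
    intro s hs hd
    rw [hW', card_map_of_injective K.subtype_injective] at hd
    have := Fact.mk hs
    refine ((hs.dvd_mul).mp (h.card_eq ▸ ((hd.trans (card_subgroup_dvd_card W)).trans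
      (card_subgroup_dvd_card K)))).resolve_left fun hsA => ?_
    obtain ⟨z, hz, hz1, -, hzH⟩ := hcentral s hsA
    have hsH : s ∣ Nat.card H := by
      refine dvd_trans ?_ (Subgroup.orderOf_dvd_natCard H (part_le hzH))
      obtain ⟨j, hj⟩ := IsPGroup.iff_orderOf.mp part_pgroup (⟨z, hz⟩ : part A s)
      rw [Subgroup.orderOf_mk] at hj
      rw [hj]
      exact dvd_pow_self s fun e => hz1 (orderOf_eq_one_iff.mp (by rw [hj, e, pow_zero]))
    refine hs.ne_one (Nat.eq_one_of_dvd_coprimes hHall ?_ (hW.index_eq_card.symm ▸ hd))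
    rwa [Nat.card_congr (subgroupOfEquivOfLe hHK).toEquiv]
  obtain ⟨g, hg⟩ := exists_conj_le_of_nilpotent_hall h.nilB h.symm.hall hWB
  obtain ⟨z, hz, hz1, hzA⟩ := h.exists_central
  obtain ⟨y, hy, hy1, hyB⟩ := h.symm.exists_central
  have hzK : z ∈ K := mem_centralizer_singleton_iff.mpr
    (mem_centralizer_singleton_iff.mp (hzA hx)).symm
  have htop : normalizer (W' : Set G) = ⊤ := by
    refine h.key hz hz1 hzA hy hy1 hyB g (le_normalizer_map_subtype W hzK)
      (centralizer_le_normalizer _ (mem_centralizer_iff.mpr fun c hc => ?_))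
    have h1 := mem_centralizer_singleton_iff.mp (hyB (mem_conj.mp (hg hc)))
    calc c * (g * y * g⁻¹) = g * (g⁻¹ * c * g * y) * g⁻¹ := by group
      _ = g * (y * (g⁻¹ * c * g)) * g⁻¹ := by rw [h1]
      _ = _ := by group
  have hx1 : x ≠ 1 := fun e => hp.ne_one (by rw [← hxp, e, orderOf_one])
  exact h.norm_ne_top hW'1
    (fun e => h.cent_ne_top hx1 (top_le_iff.mp (e ▸ map_subtype_le W))) htop

theorem Counter.card_le : Nat.card A ≤ Nat.card B := by
  set M := normalizer (A : Set G)
  obtain ⟨g, hg⟩ : ∃ g : G, g ∉ M := by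
    by_contra hall
    push Not at hall
    exact h.norm_ne_top h.ne_bot h.ne_top (eq_top_iff.mpr fun g _ => hall g)
  have hdis : A ⊓ MulAut.conj g • A = ⊥ := by
    by_contra hne
    obtain ⟨p, hp, hpd⟩ := exists_prime_dvd hne
    have := Fact.mk hp
    obtain ⟨⟨x, hx⟩, hxp⟩ := exists_prime_orderOf_dvd_card' (G := (A ⊓ MulAut.conj g • A : Subgroup G)) p hpd
    rw [Subgroup.orderOf_mk] at hxp
    obtain ⟨r, hr, hrd, hrp⟩ := h.exists_other_prime p
    have := Fact.mk hr
    have hxz : IsPGroup p (zpowers x) :=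
      IsPGroup.of_card (n := 1) (by rw [Nat.card_zpowers, hxp, pow_one])
    have hPA : MulAut.conj g • part A r ≤ MulAut.conj g • A :=
      pointwise_smul_le_pointwise_smul_iff.mpr part_le
    have hcomm := CfsgLib.MinNonNilp.commute_of_le_nilpotent (nilpotent_conj h.nilA g) hrp
      (part_pgroup.map (MulAut.conj g).toMonoidHom) hxz hPA (zpowers_le.mpr hx.2)
    have hPM : MulAut.conj g • part A r ≤ M := fun a ha => h.cent_le hx.1 hp hxp
      (mem_centralizer_singleton_iff.mpr (mem_centralizer_iff.mp (hcomm ha) x (mem_zpowers x)).symm)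
    refine hg (h.norm_part_le hrd (mem_norm_part h.nilA (h.le_of_normalizing hPM ?_)))
    exact coprime_of_pgroup hr (part_pgroup.map _) (h.not_dvd_of_dvd hr hrd)
  have hinj : Function.Injective
      (fun q : A × (MulAut.conj g • A : Subgroup G) => (q.1 : G) * q.2) := by
    rintro ⟨a, c⟩ ⟨a', c'⟩ he
    have he' : (a : G) * c = a' * c' := he
    have h1 : (a' : G)⁻¹ * a = c' * (c : G)⁻¹ := by
      rw [eq_mul_inv_iff_mul_eq, mul_assoc, he', inv_mul_cancel_left]
    have h2 : (a' : G)⁻¹ * a ∈ A ⊓ MulAut.conj g • A :=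
      ⟨A.mul_mem (A.inv_mem a'.2) a.2, h1 ▸ (MulAut.conj g • A).mul_mem c'.2 ((MulAut.conj g • A).inv_mem c.2)⟩
    rw [hdis, mem_bot] at h2
    have ha : a' = a := Subtype.ext (inv_mul_eq_one.mp h2)
    subst ha
    exact Prod.ext rfl (Subtype.ext (mul_left_cancel he'))
  have := Nat.card_le_card_of_injective _ hinj
  rw [Nat.card_prod, CfsgLib.Solvable.card_conj_smul, h.card_eq] at this
  exact Nat.le_of_mul_le_mul_left this Nat.card_pos

theorem Counter.false : False := by
  have h1 := le_antisymm h.card_le h.symm.card_le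
  have h2 := h.cop
  rw [h1, Nat.coprime_self] at h2
  exact h.symm.ne_bot (eq_bot_of_card_eq B h2)

omit h in
/-- In a product of coprime subgroups normal subgroups factorise. -/
theorem normal_factor (hcop : (Nat.card A).Coprime (Nat.card B))
    (hAB : ∀ g : G, ∃ a ∈ A, ∃ b ∈ B, g = a * b) (N : Subgroup G) [N.Normal] :
    ∀ g ∈ N, ∃ a ∈ N ⊓ A, ∃ b ∈ N ⊓ B, g = a * b := by
  have hcard : Nat.card G = Nat.card A * Nat.card B := by
    rw [factor_card hAB, Subgroup.inf_eq_bot_of_coprime hcop, card_bot, mul_one]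
  have e1 := CfsgLib.Solvable.card_inf_mul_relIndex N A
  have e2 := CfsgLib.Solvable.card_inf_mul_relIndex N B
  have hdvd : N.relIndex A * N.relIndex B ∣ N.index :=
    ((hcop.coprime_dvd_left (e1 ▸ dvd_mul_left _ _)).coprime_dvd_right
      (e2 ▸ dvd_mul_left _ _)).mul_dvd_of_dvd_of_dvd (relIndex_dvd_index_of_normal N A)
      (relIndex_dvd_index_of_normal N B)
  have hNle : Nat.card N ≤ Nat.card (N ⊓ A : Subgroup G) * Nat.card (N ⊓ B : Subgroup G) := by
    refine Nat.le_of_mul_le_mul_right ?_ (Nat.pos_of_ne_zero (index_ne_zero_of_finite (H := N)))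
    rw [N.card_mul_index, hcard, ← e1, ← e2, mul_mul_mul_comm]
    exact Nat.mul_le_mul_left _ (Nat.le_of_dvd (Nat.pos_of_ne_zero index_ne_zero_of_finite) hdvd)
  have hinf : (N ⊓ B) ⊓ (N ⊓ A) = ⊥ := le_bot_iff.mp (le_trans
    (le_inf (inf_le_right.trans inf_le_right) (inf_le_left.trans inf_le_right))
    (Subgroup.inf_eq_bot_of_coprime hcop).le)
  refine exists_mul_of_relIndex_le inf_le_left inf_le_left ?_
  have h1 := ((N ⊓ B).subgroupOf N).card_mul_index
  rw [Nat.card_congr (subgroupOfEquivOfLe (inf_le_left : N ⊓ B ≤ N)).toEquiv, ← relIndex] at h1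
  have h2 := CfsgLib.Solvable.card_inf_mul_relIndex (N ⊓ B) (N ⊓ A)
  rw [hinf, card_bot, one_mul] at h2
  rw [h2]
  refine Nat.le_of_mul_le_mul_left ?_ (Nat.card_pos (α := (N ⊓ B : Subgroup G)))
  rw [h1, mul_comm]
  exact hNle

omit h in
/-- Wielandt: products of nilpotent subgroups of coprime orders are solvable. -/
theorem isSolvable_of_coprime (hA : Group.IsNilpotent A) (hB : Group.IsNilpotent B)
    (hcop : (Nat.card A).Coprime (Nat.card B))
    (hAB : ∀ g : G, ∃ a ∈ A, ∃ b ∈ B, g = a * b) : Group.IsSolvable G := by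
  revert hA hB hcop hAB A B
  refine CfsgLib.Supersolvable.groupInduction (P := fun G [Group G] [Finite G] =>
    ∀ {A B : Subgroup G}, Group.IsNilpotent A → Group.IsNilpotent B →
      (Nat.card A).Coprime (Nat.card B) → (∀ g : G, ∃ a ∈ A, ∃ b ∈ B, g = a * b) →
      Group.IsSolvable G) ?_ G
  intro G _ _ ih A B hA hB hcop hAB
  by_contra hns
  have hsub : ∀ L : Subgroup G, L ≠ ⊤ → (∀ g ∈ L, ∃ a ∈ L ⊓ A, ∃ b ∈ L ⊓ B, g = a * b) →
      Group.IsSolvable L := fun L hL hfac => by
    refine ih L ?_ (A := (L ⊓ A).subgroupOf L) (B := (L ⊓ B).subgroupOf L) ?_ ?_ ?_ ?_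
    · refine lt_of_le_of_ne (card_le_card_group L) fun he => hL (eq_top_of_card_eq L he)
    · have := nilpotent_mono hA (inf_le_right : L ⊓ A ≤ A)
      exact Group.nilpotent_of_mulEquiv (subgroupOfEquivOfLe inf_le_left).symm
    · have := nilpotent_mono hB (inf_le_right : L ⊓ B ≤ B)
      exact Group.nilpotent_of_mulEquiv (subgroupOfEquivOfLe inf_le_left).symm
    · rw [Nat.card_congr (subgroupOfEquivOfLe (inf_le_left : L ⊓ A ≤ L)).toEquiv,
        Nat.card_congr (subgroupOfEquivOfLe (inf_le_left : L ⊓ B ≤ L)).toEquiv]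
      exact (hcop.coprime_dvd_left (card_dvd_of_le inf_le_right)).coprime_dvd_right
        (card_dvd_of_le inf_le_right)
    · intro g
      obtain ⟨a, ha, b, hb, he⟩ := hfac g g.2
      exact ⟨⟨a, ha.1⟩, mem_subgroupOf.mpr ha, ⟨b, hb.1⟩, mem_subgroupOf.mpr hb, Subtype.ext he⟩
  have : Nontrivial G := by
    by_contra hn
    rw [not_nontrivial_iff_subsingleton] at hn
    exact hns inferInstance
  have hsimple : IsSimpleGroup G := by
    refine ⟨fun N hN => ?_⟩
    by_contra hne
    push Not at hne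
    have hquo : Group.IsSolvable (G ⧸ N) := by
      have := hA
      have := hB
      refine ih (G ⧸ N) (CfsgLib.Supersolvable.card_quotient_lt hne.1)
        (A := A.map (QuotientGroup.mk' N)) (B := B.map (QuotientGroup.mk' N)) ?_ ?_ ?_ ?_
      · exact Group.nilpotent_of_surjective _ ((QuotientGroup.mk' N).subgroupMap_surjective A)
      · exact Group.nilpotent_of_surjective _ ((QuotientGroup.mk' N).subgroupMap_surjective B)
      · exact (hcop.coprime_dvd_left (card_map_dvd _ _)).coprime_dvd_right (card_map_dvd _ _)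
      · intro g
        obtain ⟨g, rfl⟩ := QuotientGroup.mk'_surjective N g
        obtain ⟨a, ha, b, hb, rfl⟩ := hAB g
        exact ⟨_, mem_map_of_mem _ ha, _, mem_map_of_mem _ hb, map_mul _ _ _⟩
    have := hsub N hne.2 (normal_factor hcop hAB N)
    exact hns (Group.isSolvable_of_ker_le_range N.subtype (QuotientGroup.mk' N) (by simp))
  exact Counter.false ⟨hA, hB, hcop, hAB, hns, hsimple, hsub⟩

end CfsgLib.Factor.Wielandt
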